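import Cfsg.Agent.Lib.PSingular.Basic
import Cfsg.Agent.Lib.Solvable.Core
import Cfsg.Agent.Lib.Perm.Basic

/-!
Coprime linear groups in which every orbit of a vector has `p`-power size: first reductions.
-/

set_option autoImplicit false
set_option linter.style.haveILetI false
set_option maxHeartbeats 400000

namespace CfsgLib.OrbitPPower

universe u

variable {q : ℕ} [Fact q.Prime] {V : Type u} [AddCommGroup V] [Module (ZMod q) V]

/-- The hypothesis: every orbit of a vector has `p`-power size. -/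
def IsPPow (p : ℕ) (H : Subgroup (V ≃ₗ[ZMod q] V)) : Prop :=
  ∀ v : V, ∃ k : ℕ, (MulAction.stabilizer H v).index = p ^ k

theorem smul_def {H : Subgroup (V ≃ₗ[ZMod q] V)} (h : H) (v : V) :
    h • v = (h : V ≃ₗ[ZMod q] V) v := rfl

theorem eq_one_of_forall {H : Subgroup (V ≃ₗ[ZMod q] V)} (h : H) (hh : ∀ v : V, h • v = v) :
    h = 1 := Subtype.ext (LinearEquiv.ext hh)

variable [Finite V]

instance : Finite (V ≃ₗ[ZMod q] V) :=
  Finite.of_injective (fun e => (e : V → V)) DFunLike.coe_injective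

/-- The orbits of a Sylow subgroup are the orbits of the whole group. -/
theorem exists_sylow_smul {p : ℕ} [hp : Fact p.Prime] {H : Subgroup (V ≃ₗ[ZMod q] V)}
    (horb : IsPPow p H) (P : Sylow p H) (h : H) (v : V) :
    ∃ u ∈ (P : Subgroup H), u • v = h • v := by
  obtain ⟨k, hk⟩ := horb v
  have hdvd : (MulAction.stabilizer H v).index ∣ (MulAction.stabilizer H v).relIndex P := by
    have h1 := Subgroup.relIndex_mul_index (inf_le_right : MulAction.stabilizer H v ⊓ P ≤ P)
    rw [Subgroup.inf_relIndex_right] at h1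
    have h2 : (MulAction.stabilizer H v).index ∣
        (MulAction.stabilizer H v ⊓ (P : Subgroup H)).index :=
      Subgroup.index_dvd_of_le inf_le_left
    rw [← h1] at h2
    refine Nat.Coprime.dvd_of_dvd_mul_right ?_ h2
    rw [hk]
    exact Nat.Coprime.pow_left _ (hp.out.coprime_iff_not_dvd.2 P.not_dvd_index)
  obtain ⟨u, hu, m, hm, rfl⟩ := PSingular.exists_mul_of_dvd_relIndex _ _ hdvd h
  exact ⟨u, hu, by rw [mul_smul, MulAction.mem_stabilizer_iff.1 hm]⟩

theorem eq_bot_of_not_dvd {p : ℕ} [hp : Fact p.Prime] {H : Subgroup (V ≃ₗ[ZMod q] V)}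
    (horb : IsPPow p H) (hd : ¬ p ∣ Nat.card H) : H = ⊥ := by
  obtain ⟨P⟩ : Nonempty (Sylow p H) := inferInstance
  have hP : (P : Subgroup H) = ⊥ := Subgroup.card_eq_one.1 (by rw [Sylow.card_eq_multiplicity, Nat.factorization_eq_zero_of_not_dvd hd, pow_zero])
  refine (Subgroup.eq_bot_iff_forall _).2 fun h hh => ?_
  have : (⟨h, hh⟩ : H) = 1 := eq_one_of_forall _ fun v => by
    obtain ⟨u, hu, he⟩ := exists_sylow_smul horb P ⟨h, hh⟩ v
    rw [hP, Subgroup.mem_bot] at hu
    rw [← he, hu, one_smul]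
  exact congrArg Subtype.val this

theorem IsPPow.map_normal {p : ℕ} (hp : p.Prime) {H : Subgroup (V ≃ₗ[ZMod q] V)}
    (horb : IsPPow p H) (N : Subgroup H) [N.Normal] : IsPPow p (N.map H.subtype) := by
  intro v
  obtain ⟨k, hk⟩ := horb v
  have hsurj := H.subtype.subgroupMap_surjective N
  have he : (MulAction.stabilizer (N.map H.subtype) v).index =
      (MulAction.stabilizer H v).relIndex N := by
    rw [← Subgroup.index_comap_of_surjective _ hsurj]
    rfl
  obtain ⟨j, -, hj⟩ := (Nat.dvd_prime_pow hp).1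
    (hk ▸ PSingular.relIndex_dvd_index (MulAction.stabilizer H v) N)
  exact ⟨j, he.trans hj⟩

theorem not_dvd_map {H : Subgroup (V ≃ₗ[ZMod q] V)} (hq : ¬ q ∣ Nat.card H) (N : Subgroup H) :
    ¬ q ∣ Nat.card (N.map H.subtype) := fun h =>
  hq (h.trans (Subgroup.card_dvd_of_le (Subgroup.map_subtype_le N)))

/-- A normal `t`-subgroup, `t ≠ p`, is trivial. -/
theorem normal_eq_bot {p t : ℕ} [hp : Fact p.Prime] [ht : Fact t.Prime] (htp : t ≠ p)
    {H : Subgroup (V ≃ₗ[ZMod q] V)} (horb : IsPPow p H) (N : Subgroup H) [N.Normal]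
    (hN : IsPGroup t N) : N = ⊥ := by
  have h : N.map H.subtype = ⊥ := by
    refine eq_bot_of_not_dvd (p := p) (horb.map_normal hp.out N) ?_
    obtain ⟨n, hn⟩ := IsPGroup.iff_card.1 (hN.map H.subtype)
    rw [hn]
    exact fun hd => htp ((Nat.prime_dvd_prime_iff_eq hp.out ht.out).1 (hp.out.dvd_of_dvd_pow hd)).symm
  rwa [Subgroup.map_eq_bot_iff_of_injective _ H.subtype_injective] at h

/-- The image in the linear group of an invariant section inherits the hypotheses. -/
theorem range_props {p : ℕ} (hp : p.Prime) {H : Subgroup (V ≃ₗ[ZMod q] V)} (horb : IsPPow p H)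
    (hq : ¬ q ∣ Nat.card H) {W : Type u} [AddCommGroup W] [Module (ZMod q) W]
    (ρ : H →* (W ≃ₗ[ZMod q] W)) (hlift : ∀ w : W, ∃ v : V, ∀ h : H, h • v = v → ρ h w = w) :
    IsPPow p ρ.range ∧ ¬ q ∣ Nat.card ρ.range := by
  refine ⟨fun w => ?_, fun h => hq (
    h.trans (Subgroup.card_range_dvd ρ))⟩
  obtain ⟨v, hv⟩ := hlift w
  obtain ⟨k, hk⟩ := horb v
  have hdvd : (MulAction.stabilizer ρ.range w).index ∣ p ^ k := by
    rw [← hk, ← Subgroup.index_comap_of_surjective _ ρ.rangeRestrict_surjective]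
    exact Subgroup.index_dvd_of_le fun h hh => hv h hh
  obtain ⟨j, -, hj⟩ := (Nat.dvd_prime_pow hp).1 hdvd
  exact ⟨j, hj⟩

omit [Finite V] in
/-- A coprime linear map stabilising a series of length two is trivial. -/
theorem eq_one_of_stabilize {H : Subgroup (V ≃ₗ[ZMod q] V)} [Finite H] (hq : ¬ q ∣ Nat.card H)
    (W : Submodule (ZMod q) V) {h : H} (hW : ∀ w ∈ W, h • w = w)
    (hQ : ∀ v : V, h • v - v ∈ W) : h = 1 := by
  have hk : ∀ (k : ℕ) (v : V), h ^ k • v = v + k • (h • v - v) := by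
    intro k
    induction k with
    | zero => simp
    | succ k ih =>
      intro v
      rw [pow_succ', mul_smul, ih v, smul_add, hW _ (W.nsmul_mem (hQ v) k), succ_nsmul]
      abel
  have hhq : h ^ q = 1 := eq_one_of_forall _ fun v => by
    rw [hk q v, ← Nat.cast_smul_eq_nsmul (ZMod q), ZMod.natCast_self, zero_smul, add_zero]
  have h1 : orderOf h ∣ 1 := by
    have hc : (Nat.card H).Coprime q :=
      Nat.coprime_comm.1 ((Fact.out : q.Prime).coprime_iff_not_dvd.2 hq)
    exact hc ▸ Nat.dvd_gcd (orderOf_dvd_natCard h) (orderOf_dvd_of_pow_eq_one hhq)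
  rwa [Nat.dvd_one, orderOf_eq_one_iff] at h1

end CfsgLib.OrbitPPower
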