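import Cfsg.Agent.Lib.OrbitPPower.Basic
import Cfsg.Agent.Lib.Perm.PolyFun

/-!
Coprime linear groups with `p`-power orbits: invariant subspaces and systems of `p` blocks.
-/

set_option autoImplicit false
set_option linter.style.haveILetI false
set_option maxHeartbeats 400000

namespace CfsgLib.OrbitPPower

universe u

variable {q : ℕ} [Fact q.Prime] {V : Type u} [AddCommGroup V] [Module (ZMod q) V]

/-- The induction hypothesis: the theorem holds for all smaller spaces. -/
def SmallSolvable (q : ℕ) [Fact q.Prime] (p n : ℕ) : Prop :=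
  ∀ (W : Type u) [AddCommGroup W] [Module (ZMod q) W] [Finite W], Nat.card W < n →
    ∀ K : Subgroup (W ≃ₗ[ZMod q] W), IsPPow p K → ¬ q ∣ Nat.card K → Group.IsSolvable K

/-- Restriction to an invariant subspace. -/
def restr (H : Subgroup (V ≃ₗ[ZMod q] V)) (W : Submodule (ZMod q) V)
    (hW : ∀ h : H, ∀ w ∈ W, h • w ∈ W) : H →* (W ≃ₗ[ZMod q] W) where
  toFun h :=
    { toFun := fun w => ⟨h • (w : V), hW h w w.2⟩
      map_add' := fun a b => Subtype.ext (smul_add h (a : V) (b : V))
      map_smul' := fun c a => Subtype.ext (map_smul (h : V ≃ₗ[ZMod q] V) c (a : V))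
      invFun := fun w => ⟨h⁻¹ • (w : V), hW h⁻¹ w w.2⟩
      left_inv := fun w => Subtype.ext (inv_smul_smul h (w : V))
      right_inv := fun w => Subtype.ext (smul_inv_smul h (w : V)) }
  map_one' := LinearEquiv.ext fun w => Subtype.ext (one_smul H (w : V))
  map_mul' a b := LinearEquiv.ext fun w => Subtype.ext (mul_smul a b (w : V))

variable [Finite V]


theorem card_quotient_lt {W : Submodule (ZMod q) V} (hbot : W ≠ ⊥) :
    Nat.card (V ⧸ W) < Nat.card V := by
  haveI : Nontrivial W := (Submodule.nontrivial_iff_ne_bot).2 hbot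
  haveI : Finite (V ⧸ W) := Finite.of_surjective _ (Submodule.Quotient.mk_surjective W)
  rw [W.card_eq_card_quotient_mul_card]
  exact lt_mul_left Nat.card_pos Finite.one_lt_card


theorem card_submodule_lt {W : Submodule (ZMod q) V} (hne : W ≠ ⊤) :
    Nat.card W < Nat.card V := by
  haveI : Nontrivial (V ⧸ W) := Submodule.Quotient.nontrivial_iff.2 hne
  haveI : Finite (V ⧸ W) := Finite.of_surjective _ (Submodule.Quotient.mk_surjective W)
  rw [W.card_eq_card_quotient_mul_card]
  exact lt_mul_right Nat.card_pos Finite.one_lt_card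

/-- A group embedded in a finite product of solvable groups is solvable. -/
theorem isSolvable_of_pi {G : Type*} [Group G] {ι : Type*} [Finite ι] {M : ι → Type*}
    [∀ i, Group (M i)] [∀ i, Group.IsSolvable (M i)] (f : ∀ i, G →* M i)
    (hf : ∀ g, (∀ i, f i g = 1) → g = 1) : Group.IsSolvable G := by
  choose n hn using fun i => Group.IsSolvable.solvable (G := M i)
  haveI := Fintype.ofFinite ι
  refine ⟨⟨Finset.univ.sup n, (Subgroup.eq_bot_iff_forall _).2 fun g hg => hf g fun i => ?_⟩⟩
  have h1 : f i g ∈ derivedSeries (M i) (n i) := derivedSeries_antitone _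
    (Finset.le_sup (Finset.mem_univ i)) (map_derivedSeries_le_derivedSeries (f i) _ ⟨g, hg, rfl⟩)
  rwa [hn i, Subgroup.mem_bot] at h1

theorem solvable_restr {p : ℕ} (hp : p.Prime) (hIH : SmallSolvable.{u} q p (Nat.card V))
    {H : Subgroup (V ≃ₗ[ZMod q] V)} (horb : IsPPow p H) (hq : ¬ q ∣ Nat.card H)
    (W : Submodule (ZMod q) V) (hW : ∀ h : H, ∀ w ∈ W, h • w ∈ W) (hne : W ≠ ⊤) :
    Group.IsSolvable (restr H W hW).range := by
  obtain ⟨h1, h2⟩ := range_props hp horb hq (restr H W hW)
    (fun w => ⟨(w : V), fun h hh => Subtype.ext hh⟩)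
  exact hIH W (card_submodule_lt hne) _ h1 h2

/-- A group with a nontrivial proper invariant subspace. -/
theorem solvable_of_invariant {p : ℕ} (hp : p.Prime) (hIH : SmallSolvable.{u} q p (Nat.card V))
    {H : Subgroup (V ≃ₗ[ZMod q] V)} (horb : IsPPow p H) (hq : ¬ q ∣ Nat.card H)
    (W : Submodule (ZMod q) V) (hW : ∀ h : H, ∀ w ∈ W, h • w ∈ W) (hbot : W ≠ ⊥) (hne : W ≠ ⊤) :
    Group.IsSolvable H := by
  let ρ : H →* ((V ⧸ W) ≃ₗ[ZMod q] (V ⧸ W)) :=
    { toFun := fun h => Submodule.Quotient.equiv W W (h : V ≃ₗ[ZMod q] V) (by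
        refine le_antisymm (Submodule.map_le_iff_le_comap.2 fun w hw => hW h w hw) fun w hw => ?_
        exact ⟨h⁻¹ • w, hW h⁻¹ w hw, smul_inv_smul h w⟩)
      map_one' := LinearEquiv.ext fun x => by
        induction x using Submodule.Quotient.induction_on with
        | H v => rfl
      map_mul' := fun a b => LinearEquiv.ext fun x => by
        induction x using Submodule.Quotient.induction_on with
        | H v => rfl }
  obtain ⟨h1, h2⟩ := range_props hp horb hq ρ fun x => by
    induction x using Submodule.Quotient.induction_on with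
    | H v => exact ⟨v, fun h hh => congrArg Submodule.Quotient.mk hh⟩
  haveI : Finite (V ⧸ W) := Finite.of_surjective _ (Submodule.Quotient.mk_surjective W)
  haveI := hIH (V ⧸ W) (card_quotient_lt hbot) _ h1 h2
  haveI := solvable_restr hp hIH horb hq W hW hne
  refine Group.isSolvable_of_isSolvable_injective
    (f := (restr H W hW).rangeRestrict.prod ρ.rangeRestrict) ?_
  refine (injective_iff_map_eq_one _).2 fun h hh => ?_
  have e1 : restr H W hW h = 1 := congrArg Subtype.val (congrArg Prod.fst hh)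
  have e2 : ρ h = 1 := congrArg Subtype.val (congrArg Prod.snd hh)
  exact eq_one_of_stabilize hq W (fun w hw => congrArg Subtype.val (LinearEquiv.congr_fun e1 ⟨w, hw⟩))
    fun v => (Submodule.Quotient.eq W).1 (LinearEquiv.congr_fun e2 (Submodule.Quotient.mk v))

/-- A system of `p` blocks cycled by a Sylow `p`-subgroup. -/
structure Blocks (p : ℕ) [Fact p.Prime] {H : Subgroup (V ≃ₗ[ZMod q] V)} (P : Sylow p H) where
  /-- the blocks -/
  W : ZMod p → Submodule (ZMod q) V
  indep : ∀ f : ZMod p → V, (∀ i, f i ∈ W i) → ∑ i, f i = 0 → ∀ i, f i = 0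
  span : ∀ v : V, ∃ f : ZMod p → V, (∀ i, f i ∈ W i) ∧ ∑ i, f i = v
  ne_bot : ∀ i, W i ≠ ⊥
  shift : ∀ u ∈ (P : Subgroup H), ∃ t : ZMod p, ∀ i, ∀ w ∈ W i, u • w ∈ W (i + t)

namespace Blocks

variable {p : ℕ} [hp : Fact p.Prime] {H : Subgroup (V ≃ₗ[ZMod q] V)} {P : Sylow p H}
  (B : Blocks p P)

theorem eq_zero_of_add_eq {a b : ZMod p} (hab : a ≠ b) {x y : V} (hx : x ∈ B.W a) (hy : y ∈ B.W b)
    {c d : ZMod p} {x' y' : V} (hx' : x' ∈ B.W c) (hy' : y' ∈ B.W d) (h : x + y = x' + y')
    (hac : a ≠ c) (had : a ≠ d) : x = 0 := by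
  have hs := B.indep (Pi.single a x + Pi.single b y - Pi.single c x' - Pi.single d y') (fun i => by
    simp only [Pi.add_apply, Pi.sub_apply]
    refine sub_mem (sub_mem (add_mem ?_ ?_) ?_) ?_ <;>
      (rw [Pi.single_apply]; split_ifs with hi; exacts [hi ▸ ‹_›, zero_mem _]))
    (by simp [Finset.sum_add_distrib, Finset.sum_sub_distrib, h]) a
  simpa [hab, hac, had] using hs

theorem eq_zero_of_mem {a b : ZMod p} (hab : a ≠ b) {x : V} (hx : x ∈ B.W a) (hx' : x ∈ B.W b) :
    x = 0 :=
  B.eq_zero_of_add_eq (c := b) (d := b) hab hx (zero_mem _) hx' (zero_mem _) rfl hab hab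

theorem exists_ne_zero (i : ZMod p) : ∃ w ∈ B.W i, w ≠ 0 :=
  (Submodule.ne_bot_iff _).1 (B.ne_bot i)

theorem exists_image (horb : IsPPow p H) (h : H) (i : ZMod p) :
    ∃ j, ∀ w ∈ B.W i, h • w ∈ B.W j := by
  have key : ∀ w ∈ B.W i, ∃ j, h • w ∈ B.W j := fun w hw => by
    obtain ⟨u, hu, he⟩ := exists_sylow_smul horb P h w
    obtain ⟨t, ht⟩ := B.shift u hu
    exact ⟨i + t, he ▸ ht i w hw⟩
  obtain ⟨w₀, hw₀, hne⟩ := B.exists_ne_zero i
  obtain ⟨j, hj⟩ := key w₀ hw₀
  refine ⟨j, fun w hw => ?_⟩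
  obtain ⟨k, hk⟩ := key w hw
  obtain ⟨l, hl⟩ := key (w₀ + w) (add_mem hw₀ hw)
  by_cases hkj : k = j
  · exact hkj ▸ hk
  rw [smul_add] at hl
  by_cases hkl : k = l
  · exfalso
    refine hne ((smul_eq_zero_iff_eq h).1 ?_)
    exact B.eq_zero_of_add_eq (Ne.symm hkj) hj hk hl (zero_mem (B.W l)) (add_zero _).symm
      (hkl ▸ Ne.symm hkj) (hkl ▸ Ne.symm hkj)
  · rw [B.eq_zero_of_add_eq hkj hk hj hl (zero_mem (B.W l))
      (by rw [add_zero, add_comm]) hkl hkl]
    exact zero_mem _

theorem image_unique {h : H} {i j j' : ZMod p} (hj : ∀ w ∈ B.W i, h • w ∈ B.W j)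
    (hj' : ∀ w ∈ B.W i, h • w ∈ B.W j') : j = j' := by
  by_contra hne
  obtain ⟨w, hw, hw0⟩ := B.exists_ne_zero i
  exact hw0 ((smul_eq_zero_iff_eq h).1 (B.eq_zero_of_mem hne (hj w hw) (hj' w hw)))

/-- A group with a system of `p` blocks. -/
theorem isSolvable (B : Blocks p P) (hIH : SmallSolvable.{u} q p (Nat.card V))
    (horb : IsPPow p H) (hq : ¬ q ∣ Nat.card H) : Group.IsSolvable H := by
  classical
  choose π hπ using fun h i => B.exists_image horb h i
  have hone : ∀ i, π 1 i = i := fun i =>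
    B.image_unique (hπ 1 i) fun w hw => by rwa [one_smul]
  have hmul : ∀ a b i, π (a * b) i = π a (π b i) := fun a b i =>
    B.image_unique (hπ (a * b) i) fun w hw => by rw [mul_smul]; exact hπ a _ _ (hπ b i w hw)
  let φ : H →* Equiv.Perm (ZMod p) :=
    { toFun := fun h => ⟨π h, π h⁻¹, fun i => by rw [← hmul, inv_mul_cancel, hone],
        fun i => by rw [← hmul, mul_inv_cancel, hone]⟩
      map_one' := Equiv.ext hone
      map_mul' := fun a b => Equiv.ext (hmul a b) }
  have hne1 : ∀ i : ZMod p, i + 1 ≠ i := fun i h => one_ne_zero (add_eq_left.1 h)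
  -- adjacency is preserved
  have hadj : ∀ h i, π h (i + 1) = π h i + 1 ∨ π h (i + 1) = π h i - 1 := by
    intro h i
    obtain ⟨x, hx, hx0⟩ := B.exists_ne_zero i
    obtain ⟨y, hy, hy0⟩ := B.exists_ne_zero (i + 1)
    obtain ⟨u, hu, he⟩ := exists_sylow_smul horb P h (x + y)
    obtain ⟨t, ht⟩ := B.shift u hu
    rw [smul_add, smul_add] at he
    have hd : π h i ≠ π h (i + 1) := fun e => hne1 i ((φ h).injective e.symm)
    have h1 : π h i = i + t ∨ π h i = i + 1 + t := by
      by_contra hc
      push Not at hc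
      exact hx0 ((smul_eq_zero_iff_eq h).1 (B.eq_zero_of_add_eq hd (hπ h i x hx)
        (hπ h _ y hy) (ht i x hx) (ht _ y hy) he.symm hc.1 hc.2))
    have h2 : π h (i + 1) = i + t ∨ π h (i + 1) = i + 1 + t := by
      by_contra hc
      push Not at hc
      exact hy0 ((smul_eq_zero_iff_eq h).1 (B.eq_zero_of_add_eq hd.symm (hπ h _ y hy)
        (hπ h i x hx) (ht i x hx) (ht _ y hy) (by rw [add_comm, he]) hc.1 hc.2))
    rcases h1 with h1 | h1 <;> rcases h2 with h2 | h2
    · exact absurd (h1.trans h2.symm) hd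
    · left; rw [h1, h2]; ring
    · right; rw [h1, h2]; ring
    · exact absurd (h1.trans h2.symm) hd
  have haff : ∀ σ ∈ φ.range, ∃ a b : ZMod p, ∀ j, σ j = a * j + b := by
    rintro _ ⟨h, rfl⟩
    refine ⟨π h (0 + 1) - π h 0, π h 0, fun j => ?_⟩
    show π h j = _
    have hstep : ∀ i, π h (i + 1 + 1) - π h (i + 1) = π h (i + 1) - π h i := by
      intro i
      have hinj : π h (i + 1 + 1) = π h i → ((1 : ZMod p) + 1) = 0 := fun e => by
        have := (φ h).injective e
        rwa [add_assoc, add_eq_left] at this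
      rcases hadj h i with e1 | e1 <;> rcases hadj h (i + 1) with e2 | e2
      · rw [e2]; linear_combination -e1
      · have h2 := hinj (by rw [e2, e1, add_sub_cancel_right])
        rw [e2]; linear_combination -e1 - h2
      · have h2 := hinj (by rw [e2, e1, sub_add_cancel])
        rw [e2]; linear_combination -e1 + h2
      · rw [e2]; linear_combination -e1
    have hlin : ∀ k : ℕ, π h ((k : ZMod p) + 1) - π h (k : ZMod p) = π h (0 + 1) - π h 0 ∧
        π h (k : ZMod p) = (π h (0 + 1) - π h 0) * k + π h 0 := by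
      intro k
      induction k with
      | zero => simp
      | succ k ih =>
        refine ⟨?_, ?_⟩
        · rw [Nat.cast_succ, hstep, ih.1]
        · rw [Nat.cast_succ]; linear_combination ih.1 + ih.2
    simpa using (hlin j.val).2
  haveI := Perm.isSolvable_of_affine φ.range haff
  haveI : Group.IsSolvable φ.ker := by
    set K := φ.ker.map H.subtype with hKdef
    have hKorb := horb.map_normal hp.out φ.ker
    have hKq := not_dvd_map hq φ.ker
    have hKW : ∀ (i : ZMod p) (k : K), ∀ w ∈ B.W i, k • w ∈ B.W i := by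
      rintro i ⟨_, k, hk, rfl⟩ w hw
      have e : π k i = i := Equiv.ext_iff.1 hk i
      have := hπ k i w hw
      rw [e] at this
      exact this
    have hWne : ∀ i, B.W i ≠ ⊤ := fun i e => by
      obtain ⟨w, hw, hw0⟩ := B.exists_ne_zero (i + 1)
      exact hw0 (B.eq_zero_of_mem (hne1 i) hw (e ▸ Submodule.mem_top))
    haveI := fun i => solvable_restr hp.out hIH hKorb hKq (B.W i) (hKW i) (hWne i)
    haveI : Group.IsSolvable K := by
      refine isSolvable_of_pi (fun i => (restr K (B.W i) (hKW i)).rangeRestrict)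
        fun k hk => eq_one_of_forall _ fun v => ?_
      obtain ⟨f, hf, rfl⟩ := B.span v
      rw [Finset.smul_sum]
      refine Finset.sum_congr rfl fun i _ => ?_
      have e : restr K (B.W i) (hKW i) k = 1 := congrArg Subtype.val (hk i)
      exact congrArg Subtype.val (LinearEquiv.congr_fun e ⟨f i, hf i⟩)
    exact Group.isSolvable_of_isSolvable_injective
      (f := (φ.ker.equivMapOfInjective H.subtype H.subtype_injective).toMonoidHom)
      (MulEquiv.injective _)
  exact Group.isSolvable_of_ker_le_range φ.ker.subtype φ.rangeRestrict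
    (by rw [Subgroup.range_subtype, MonoidHom.ker_rangeRestrict])

end Blocks

end CfsgLib.OrbitPPower
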