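import Cfsg.Agent.Lib.OrbitPPower.Field
import Cfsg.Agent.Lib.BGroup.CyclicSylow
import Cfsg.Agent.Lib.Perm.PrimeDegree
import Cfsg.Agent.Lib.PermGen.SwapClosure

/-!
The irreducible cyclic case, `p` odd: a simple group with all orbits of `p`-power size is impossible.
-/

set_option autoImplicit false
set_option linter.style.haveILetI false
set_option maxHeartbeats 400000

open scoped Pointwise

namespace CfsgLib.OrbitPPower

universe u

open Polynomial in
/-- The polynomial identity behind the two-transitive case. -/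
theorem not_constant_pow {R : Type*} [CommRing R] [IsDomain R] {N : ℕ} (hN : 4 ≤ N)
    (h0 : (N : R) ≠ 0) (h2R : (2 : R) ≠ 0) {ω : R} (hω : orderOf ω = N) (c : R)
    (hc : ∀ j, 1 ≤ j → j < N → (1 + ω ^ j) ^ N = c) : False := by
  classical
  set f : R[X] := (1 + X) ^ N - X ^ N + C (1 - c) - (N : R[X]) * ∑ i ∈ Finset.range N, X ^ i with hf
  set s : Finset R := (Finset.Icc 1 (N - 1)).image fun j => ω ^ j with hs
  have hinj : Set.InjOn (fun j => ω ^ j) (Finset.Icc 1 (N - 1) : Set ℕ) := by
    intro i hi j hj hij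
    simp only [Finset.coe_Icc, Set.mem_Icc] at hi hj
    exact pow_injOn_Iio_orderOf (Set.mem_Iio.2 (by omega)) (Set.mem_Iio.2 (by omega)) hij
  have hcard : s.card = N - 1 := by
    rw [hs, Finset.card_image_of_injOn hinj, Nat.card_Icc]
    omega
  have heval : ∀ x ∈ s, f.eval x = 0 := by
    intro x hx
    simp only [hs, Finset.mem_image, Finset.mem_Icc] at hx
    obtain ⟨j, ⟨hj1, hj2⟩, rfl⟩ := hx
    have hN1 : (ω ^ j) ^ N = 1 := by
      rw [← pow_mul, mul_comm, pow_mul, ← hω, pow_orderOf_eq_one, one_pow]
    have hne : ω ^ j ≠ 1 := fun h => by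
      have := Nat.le_of_dvd (by omega) (orderOf_dvd_of_pow_eq_one h)
      omega
    have hgeo : ∑ i ∈ Finset.range N, (ω ^ j) ^ i = 0 := by
      have := mul_geom_sum (ω ^ j) N
      rw [hN1, sub_self] at this
      exact (mul_eq_zero.1 this).resolve_left (sub_ne_zero.2 hne)
    simp only [hf, eval_add, eval_sub, eval_pow, eval_one, eval_X, eval_C, eval_mul,
      eval_natCast, eval_finsetSum, hN1, hgeo, mul_zero, sub_zero, hc j hj1 (by omega)]
    ring
  have hcoeff : ∀ k, 0 < k → f.coeff k =
      (N.choose k : R) - (if k = N then 1 else 0) - (N : R) * (if k < N then 1 else 0) := by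
    intro k hk
    simp only [hf, coeff_sub, coeff_add, coeff_one_add_X_pow, coeff_X_pow, coeff_C, hk.ne',
      if_false, add_zero, ← C_eq_natCast, coeff_C_mul, finsetSum_coeff, Finset.sum_ite_eq,
      Finset.mem_range]
  have hdeg : f.natDegree ≤ N - 2 := by
    rw [natDegree_le_iff_coeff_eq_zero]
    intro k hk
    rw [hcoeff k (by omega)]
    rcases lt_trichotomy k N with h | h | h
    · have : k = N - 1 := by omega
      subst this
      rw [if_neg h.ne, if_pos h, Nat.choose_symm (n := N) (k := 1) (by omega), Nat.choose_one_right]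
      ring
    · subst h
      simp
    · rw [if_neg h.ne', if_neg (by omega), Nat.choose_eq_zero_of_lt h]
      simp
  have hf0 : f = 0 :=
    eq_zero_of_natDegree_lt_card_of_eval_eq_zero' f s heval (by rw [hcard]; omega)
  have key : ∀ k, 0 < k → k < N → (N.choose (N - k) : R) = N → (N.choose k : R) = N := by
    intro k _ hkN h
    rwa [Nat.choose_symm hkN.le] at h
  have hval : ∀ k, 0 < k → k < N → (N.choose k : R) = N := by
    intro k hk hkN
    have := hcoeff k hk
    rw [hf0, coeff_zero, if_neg hkN.ne, if_pos hkN] at this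
    linear_combination -this
  have h2 : (N.choose 2 : R) = N := key 2 (by omega) (by omega) (hval _ (by omega) (by omega))
  have h3 : (N.choose 3 : R) = N := key 3 (by omega) (by omega) (hval _ (by omega) (by omega))
  have e2 : (N.choose 2 : R) * 2 = (N : R) * ((N - 1 : ℕ) : R) := by
    have h := Nat.choose_succ_right_eq N 1
    rw [Nat.choose_one_right] at h
    have := congrArg (Nat.cast : ℕ → R) h
    push_cast at this
    linear_combination this
  have e3 : (N.choose 3 : R) * 3 = (N.choose 2 : R) * ((N - 2 : ℕ) : R) := by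
    have := congrArg (Nat.cast : ℕ → R) (Nat.choose_succ_right_eq N 2)
    push_cast at this
    linear_combination this
  rw [Nat.cast_sub (by omega : 1 ≤ N)] at e2
  rw [Nat.cast_sub (by omega : 2 ≤ N)] at e3
  push_cast at e2 e3
  rw [h2] at e2 e3
  rw [h3] at e3
  have f2 : (N : R) - 1 = 2 := mul_left_cancel₀ h0 (by rw [← e2])
  have f3 : (N : R) - 2 = 3 := mul_left_cancel₀ h0 (by rw [← e3])
  exact h2R (by linear_combination f2 - f3)

variable {q : ℕ} [Fact q.Prime] {V : Type u} [AddCommGroup V] [Module (ZMod q) V] [Finite V]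

/-- The cyclic case. -/
theorem false_of_cyclic [Nontrivial V] {p : ℕ} [hp : Fact p.Prime] (hp2 : p ≠ 2)
    {H : Subgroup (V ≃ₗ[ZMod q] V)} (horb : IsPPow p H) (hq : ¬ q ∣ Nat.card H)
    (hns : ¬ Group.IsSolvable H) (hsimple : ∀ N : Subgroup H, N.Normal → N = ⊥ ∨ N = ⊤)
    (P : Sylow p H) {a : H} (hPa : (P : Subgroup H) = Subgroup.zpowers a) (ha : NoInvariant a) :
    False := by
  classical
  obtain ⟨v, hv⟩ := exists_ne (0 : V)
  have hpH : p ∣ Nat.card H := by
    by_contra hd
    haveI : Subsingleton H := ⟨fun x y => by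
      have h := eq_bot_of_not_dvd horb hd
      exact Subtype.ext (((Subgroup.eq_bot_iff_forall _).1 h _ x.2).trans
        ((Subgroup.eq_bot_iff_forall _).1 h _ y.2).symm)⟩
    exact hns inferInstance
  have ha1 : a ≠ 1 := fun h => by
    have h1 := P.dvd_card_of_dvd_card hpH
    rw [hPa, h, Subgroup.zpowers_one_eq_bot, Subgroup.card_bot] at h1
    exact hp.out.ne_one (Nat.dvd_one.1 h1)
  set O := MulAction.orbit H v with hO
  haveI : MulAction.IsPretransitive H O := inferInstance
  haveI : Nonempty O := ⟨⟨v, MulAction.mem_orbit_self v⟩⟩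
  haveI : Finite O := inferInstance
  have hO0 : ∀ w : O, (w : V) ≠ 0 := by
    rintro ⟨_, g, rfl⟩ h
    exact hv ((smul_eq_zero_iff_eq g).1 h)
  haveI hPtrans : MulAction.IsPretransitive (P : Subgroup H) O := ⟨fun x y => by
    obtain ⟨g, hg⟩ := MulAction.exists_smul_eq H x y
    obtain ⟨u, hu, he⟩ := exists_sylow_smul horb P g (x : V)
    exact ⟨⟨u, hu⟩, Subtype.ext (he.trans (congrArg Subtype.val hg))⟩⟩
  have hfix : ∀ u : H, u ∈ (P : Subgroup H) → ∀ w : V, w ≠ 0 → u • w = w → u = 1 := by
    intro u hu w hw huw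
    rw [hPa] at hu
    obtain ⟨i, rfl⟩ := hu
    rcases ha (LinearMap.ker (op (a ^ i) - 1)) (fun x hx => by
      rw [LinearMap.mem_ker, LinearMap.sub_apply, sub_eq_zero] at hx ⊢
      show a ^ i • a • x = a • x
      rw [← mul_smul, ((Commute.refl a).zpow_left i).eq, mul_smul]
      exact congrArg (a • ·) hx) with h | h
    · refine absurd (?_ : w ∈ (⊥ : Submodule (ZMod q) V)) (by simpa using hw)
      rw [← h, LinearMap.mem_ker, LinearMap.sub_apply, sub_eq_zero]
      exact huw
    · refine eq_one_of_forall _ fun x => ?_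
      have := (LinearMap.ker_eq_top.1 h)
      exact sub_eq_zero.1 (LinearMap.congr_fun this x)
  have hfree : ∀ w : O, MulAction.stabilizer (P : Subgroup H) w = ⊥ := fun w =>
    (Subgroup.eq_bot_iff_forall _).2 fun u hu =>
      Subtype.ext (hfix u u.2 w (hO0 w) (congrArg Subtype.val hu))
  have hcardO : Nat.card O = Nat.card (P : Subgroup H) := by
    have h := MulAction.index_stabilizer_of_transitive (P : Subgroup H) (Classical.arbitrary O)
    rw [hfree, Subgroup.index_bot] at h
    exact h.symm
  haveI : FaithfulSMul H O := by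
    have hker : (MulAction.toPermHom H O).ker = ⊥ := by
      refine (hsimple _ inferInstance).resolve_right fun h => ha1 ?_
      refine hfix a (hPa ▸ Subgroup.mem_zpowers a) v hv ?_
      have h1 : a ∈ (MulAction.toPermHom H O).ker := h ▸ Subgroup.mem_top a
      exact congrArg Subtype.val (Equiv.ext_iff.1 h1 ⟨v, MulAction.mem_orbit_self v⟩)
    exact ⟨fun {g g'} h => (MonoidHom.ker_eq_bot_iff _).1 hker (Equiv.ext h)⟩
  haveI hPc : IsMulCommutative (P : Subgroup H) := hPa ▸ inferInstance
  haveI hPcyc : IsCyclic (P : Subgroup H) := hPa ▸ inferInstance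
  -- two-transitivity
  have h2t : ∀ x y x' y' : O, x ≠ y → x' ≠ y' → ∃ g : H, g • x = x' ∧ g • y = y' := by
    by_cases hNp : Nat.card (P : Subgroup H) = p
    · haveI := Fintype.ofFinite O
      set Γ := (MulAction.toPermHom H O).range with hΓ
      haveI : MulAction.IsPretransitive Γ O := ⟨fun x y => by
        obtain ⟨g, hg⟩ := MulAction.exists_smul_eq H x y
        exact ⟨⟨_, g, rfl⟩, hg⟩⟩
      have hΓns : ¬ Group.IsSolvable Γ := fun h => hns (Group.isSolvable_of_isSolvable_injective
        (f := (MulAction.toPermHom H O).rangeRestrict)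
        ((MulAction.toPermHom H O).rangeRestrict_injective_iff.2 MulAction.toPerm_injective))
      have h := Perm.two_transitive_of_not_isSolvable (p := p)
        (by rw [← Nat.card_eq_fintype_card, hcardO, hNp]) Γ hΓns
      rw [MulAction.is_two_pretransitive_iff] at h
      intro x y x' y' hxy hxy'
      obtain ⟨⟨_, g, rfl⟩, h1, h2⟩ := h hxy hxy'
      exact ⟨g, h1, h2⟩
    · haveI : MulAction.IsPreprimitive H O := by
        refine { isTrivialBlock_of_isBlock := fun {B} hB => ?_ }
        by_contra hnt
        obtain ⟨hns', hne⟩ := not_or.1 hnt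
        obtain ⟨b, hb, b', hb', hbb'⟩ := Set.not_subsingleton_iff.1 hns'
        obtain ⟨u, hu⟩ := MulAction.exists_smul_eq (P : Subgroup H) b b'
        have heq : ∀ g₁ g₂ : H, ∀ z, z ∈ g₁ • B → z ∈ g₂ • B → g₁ • B = g₂ • B := by
          intro g₁ g₂ z h1 h2
          by_contra h
          exact Set.disjoint_left.1 (hB h) h1 h2
        have huB : (u : H) • B = B := by
          conv_rhs => rw [← one_smul H B]
          exact heq _ _ b' ⟨b, hb, hu⟩ (by rwa [one_smul])
        have hu1 : (u : H) ≠ 1 := fun h => hbb' (by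
          rw [← hu]
          show b = (u : H) • b
          rw [h, one_smul])
        have hutriv : ∀ g : H, (u : H) • g • B = g • B := by
          intro g
          obtain ⟨w, hw⟩ := MulAction.exists_smul_eq (P : Subgroup H) b (g • b)
          have hgB : g • B = (w : H) • B := heq _ _ (g • b) ⟨b, hb, rfl⟩ ⟨b, hb, hw⟩
          rw [hgB, ← mul_smul, show (u : H) * w = w * u from congrArg Subtype.val (mul_comm' u w),
            mul_smul, huB]
        let K : Subgroup H :=
          { carrier := {h | ∀ g : H, h • g • B = g • B}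
            one_mem' := fun g => one_smul H _
            mul_mem' := fun {x y} hx hy g => by rw [mul_smul, hy g, hx g]
            inv_mem' := fun {x} hx g => inv_smul_eq_iff.2 (hx g).symm }
        have hK : K.Normal := ⟨fun h hh c g => by
          have := hh (c⁻¹ * g)
          rw [mul_smul, mul_smul, ← mul_smul c⁻¹ g B, this, ← mul_smul, mul_inv_cancel_left]⟩
        rcases hsimple K hK with hK' | hK'
        · exact hu1 ((Subgroup.eq_bot_iff_forall _).1 hK' _ hutriv)
        · refine hne (Set.eq_univ_of_forall fun z => ?_)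
          obtain ⟨g, hg⟩ := MulAction.exists_smul_eq H b z
          have h := (hK'.symm ▸ Subgroup.mem_top g : g ∈ K) 1
          rw [one_smul] at h
          rw [← h, ← hg]
          exact ⟨b, hb, rfl⟩
      have hcount : Nat.card {x : (P : Subgroup H) // x ^ p = 1} = p := by
        letI : CommGroup (P : Subgroup H) :=
          { (inferInstance : Group (P : Subgroup H)) with mul_comm := fun x y => mul_comm' x y }
        have h := IsCyclic.card_powMonoidHom_ker (G := (P : Subgroup H)) p
        rw [Nat.gcd_eq_right (P.dvd_card_of_dvd_card hpH)] at h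
        exact h
      have h := BGroup.two_pretransitive_of_regular (G := H) (Ω := O) (P : Subgroup H) hfree p
        hcount hNp
      rw [MulAction.is_two_pretransitive_iff] at h
      exact fun x y x' y' h1 h2 => h h1 h2
  -- the group has even order
  obtain ⟨m, hm⟩ := P.2.exists_card_eq
  set N := Nat.card (P : Subgroup H) with hN
  have hodd : Odd N := by
    rw [hm]
    exact Odd.pow (hp.out.odd_of_ne_two hp2)
  have hN5 : 5 ≤ N := by
    by_contra hlt
    haveI := Fintype.ofFinite O
    haveI : Group.IsSolvable (Equiv.Perm O) := by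
      obtain ⟨e⟩ : Nonempty (O ↪ Fin 4) := Function.Embedding.nonempty_of_card_le
        (by rw [Fintype.card_fin, ← Nat.card_eq_fintype_card, hcardO]; omega)
      haveI := PermGen.perm_four_isSolvable
      exact Group.isSolvable_of_isSolvable_injective (Equiv.Perm.viaEmbeddingHom_injective e)
    exact hns (Group.isSolvable_of_isSolvable_injective (f := MulAction.toPermHom H O)
      MulAction.toPerm_injective)
  have hord : orderOf a = N := by rw [hN, hPa, Nat.card_zpowers]
  have hpt : ∀ u : H, u • v ∈ O := fun u => ⟨u, rfl⟩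
  let pt : H → O := fun u => ⟨u • v, hpt u⟩
  have hne : ∀ j, 1 ≤ j → j < N → pt 1 ≠ pt (a ^ j) := by
    intro j h1 h2 h
    have h3 : a ^ j • v = v := ((congrArg Subtype.val h).symm.trans (one_smul H v))
    have := Nat.le_of_dvd h1 (orderOf_dvd_of_pow_eq_one
      (hfix _ (hPa ▸ pow_mem (Subgroup.mem_zpowers a) j) v hv h3))
    omega
  have hq2 : q ≠ 2 := by
    intro h2
    have h10 := hne 1 le_rfl (by omega)
    obtain ⟨g, hg1, hg2⟩ := h2t _ _ _ _ h10 h10.symm
    rcases Nat.even_or_odd (orderOf g) with he | ⟨l, hl⟩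
    · exact hq ((dvd_of_eq h2).trans ((even_iff_two_dvd.1 he).trans (orderOf_dvd_natCard g)))
    · apply h10
      have hsq : g ^ 2 • pt 1 = pt 1 := by rw [sq, mul_smul, hg1, hg2]
      have hsq' : ∀ i : ℕ, (g ^ 2) ^ i • pt 1 = pt 1 := by
        intro i
        induction i with
        | zero => rw [pow_zero, one_smul]
        | succ i ih => rw [pow_succ, mul_smul, hsq, ih]
      have hgpow : (g ^ 2) ^ (l + 1) = g := by
        rw [← pow_mul, show 2 * (l + 1) = orderOf g + 1 by omega, pow_succ, pow_orderOf_eq_one,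
          one_mul]
      have h4 := hsq' (l + 1)
      rw [hgpow, hg1] at h4
      exact h4.symm
  haveI := genRing_isDomain ha
  haveI : CharP (genRing a) q := charP_of_injective_algebraMap
    (algebraMap (ZMod q) (genRing a)).injective q
  have hNR : (N : genRing a) ≠ 0 := by
    rw [Ne, CharP.cast_eq_zero_iff (genRing a) q]
    exact fun h => hq (h.trans (Subgroup.card_subgroup_dvd_card _))
  have hω : orderOf (gen a) = N := by
    rw [← hord, orderOf_eq_iff (orderOf_pos a)]
    refine ⟨Subtype.ext ?_, fun i hi hi0 h => ?_⟩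
    · rw [gen_pow_val, pow_orderOf_eq_one]
      exact LinearMap.ext fun w => one_smul H w
    · refine pow_ne_one_of_lt_orderOf hi0.ne' hi (op_injective ?_)
      rw [← gen_pow_val, h]
      exact LinearMap.ext fun w => (one_smul H w).symm
  have h6 : ((2 : ℕ) : genRing a) ≠ 0 := by
    rw [Ne, CharP.cast_eq_zero_iff (genRing a) q]
    exact fun h => hq2 ((Nat.prime_dvd_prime_iff_eq Fact.out Nat.prime_two).1 h)
  refine not_constant_pow (by omega) hNR (by exact_mod_cast h6) hω ((1 + gen a ^ 1) ^ N)
    fun j h1 h2 => ?_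
  obtain ⟨g, hg1, hg2⟩ := h2t _ _ _ _ (hne 1 le_rfl (by omega)) (hne j h1 h2)
  obtain ⟨u, hu, he⟩ := exists_sylow_smul horb P g (v + a ^ 1 • v)
  rw [hPa] at hu
  obtain ⟨k, rfl⟩ := (isOfFinOrder_of_finite a).mem_powers_iff_mem_zpowers.2 hu
  have e1 : g • (v + a ^ 1 • v) = v + a ^ j • v := by
    rw [smul_add]
    exact congrArg₂ (· + ·)
      (by
        have h5 : g • ((1 : H) • v) = (1 : H) • v := congrArg Subtype.val hg1
        rwa [one_smul] at h5) (congrArg Subtype.val hg2)
  have e2 : 1 + gen a ^ j = gen a ^ k * (1 + gen a ^ 1) := eval_injective ha hv (by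
    simp only [Subalgebra.coe_add, Subalgebra.coe_one, Subalgebra.coe_mul, gen_pow_val,
      LinearMap.add_apply, Module.End.mul_apply, Module.End.one_apply, op_apply]
    exact (he.trans e1).symm)
  rw [e2, mul_pow, ← pow_mul, mul_comm k, pow_mul, ← hω, pow_orderOf_eq_one, one_pow, one_mul]

end CfsgLib.OrbitPPower
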