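import Cfsg.Agent.Lib.OrbitPPower.Basic

/-!
The commutative ring generated by one element with no invariant subspace.
-/

set_option autoImplicit false
set_option linter.style.haveILetI false
set_option maxHeartbeats 400000

namespace CfsgLib.OrbitPPower

universe u

variable {q : ℕ} [Fact q.Prime] {V : Type u} [AddCommGroup V] [Module (ZMod q) V]
  {H : Subgroup (V ≃ₗ[ZMod q] V)}

/-- The element as an endomorphism. -/
def op (a : H) : Module.End (ZMod q) V := ((a : V ≃ₗ[ZMod q] V) : V →ₗ[ZMod q] V)

theorem op_apply (a : H) (v : V) : op a v = a • v := rfl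

theorem op_mul (a b : H) : op (a * b) = op a * op b := LinearMap.ext fun v => mul_smul a b v

theorem op_pow (a : H) (k : ℕ) : op (a ^ k) = op a ^ k := by
  induction k with
  | zero => exact LinearMap.ext fun v => one_smul H v
  | succ k ih => rw [pow_succ, pow_succ, op_mul, ih]

theorem op_injective : Function.Injective (op (H := H) : H → Module.End (ZMod q) V) :=
  fun _ _ h => Subtype.ext (LinearEquiv.ext fun v => LinearMap.congr_fun h v)

/-- `a` has no invariant subspace other than `⊥` and `⊤`. -/
def NoInvariant (a : H) : Prop :=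
  ∀ W : Submodule (ZMod q) V, (∀ w ∈ W, a • w ∈ W) → W = ⊥ ∨ W = ⊤

/-- The ring generated by `a`. -/
abbrev genRing (a : H) : Subalgebra (ZMod q) (Module.End (ZMod q) V) :=
  Algebra.adjoin (ZMod q) {op a}

/-- The generator. -/
def gen (a : H) : genRing a := ⟨op a, Algebra.self_mem_adjoin_singleton _ _⟩

theorem gen_pow_val (a : H) (k : ℕ) : ((gen a ^ k : genRing a) : Module.End (ZMod q) V) = op (a ^ k) := by
  rw [SubmonoidClass.coe_pow, op_pow]
  rfl

theorem genRing_comm (a : H) (x y : genRing a) : x * y = y * x := by
  obtain ⟨x, hx⟩ := x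
  obtain ⟨y, hy⟩ := y
  rw [genRing, Algebra.adjoin_singleton_eq_range_aeval, AlgHom.mem_range] at hx hy
  obtain ⟨f, rfl⟩ := hx
  obtain ⟨g, rfl⟩ := hy
  refine Subtype.ext ?_
  show _ * _ = _ * _
  rw [← map_mul, ← map_mul, mul_comm]

instance genRingCommRing (a : H) : CommRing (genRing a) :=
  { (inferInstance : Ring (genRing a)) with mul_comm := genRing_comm a }

theorem eq_zero_or_injective {a : H} (ha : NoInvariant a) (x : genRing a) :
    x = 0 ∨ Function.Injective (x : Module.End (ZMod q) V) := by
  rcases ha (LinearMap.ker (x : Module.End (ZMod q) V)) (fun w hw => by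
    rw [LinearMap.mem_ker] at hw ⊢
    have := congrArg (fun e : genRing a => (e : Module.End (ZMod q) V) w) (genRing_comm a x (gen a))
    refine this.trans ?_
    show op a ((x : Module.End (ZMod q) V) w) = 0
    rw [hw, map_zero]) with h | h
  · exact Or.inr (LinearMap.ker_eq_bot.1 h)
  · exact Or.inl (Subtype.ext (LinearMap.ker_eq_top.1 h))

theorem eval_injective {a : H} (ha : NoInvariant a) {v : V} (hv : v ≠ 0) :
    Function.Injective fun x : genRing a => (x : Module.End (ZMod q) V) v := by
  intro x y h
  rcases eq_zero_or_injective ha (x - y) with h0 | h0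
  · exact sub_eq_zero.1 h0
  · refine absurd (h0 (a₂ := 0) ?_) hv
    rw [map_zero, Subalgebra.coe_sub, LinearMap.sub_apply, sub_eq_zero]
    exact h

theorem eval_surjective {a : H} (ha : NoInvariant a) {v : V} (hv : v ≠ 0) :
    Function.Surjective fun x : genRing a => (x : Module.End (ZMod q) V) v := by
  let f : genRing a →ₗ[ZMod q] V :=
    { toFun := fun x => (x : Module.End (ZMod q) V) v
      map_add' := fun x y => rfl
      map_smul' := fun c x => rfl }
  rcases ha (LinearMap.range f) (by
    rintro _ ⟨x, rfl⟩
    exact ⟨gen a * x, rfl⟩) with h | h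
  · exact absurd ((LinearMap.range_eq_bot.1 h).symm ▸ rfl : f 1 = 0) hv
  · exact LinearMap.range_eq_top.1 h

theorem genRing_isDomain {a : H} (ha : NoInvariant a) [Nontrivial V] : IsDomain (genRing a) := by
  obtain ⟨v, hv⟩ := exists_ne (0 : V)
  haveI : Nontrivial (genRing a) := ⟨1, 0, fun h => hv (congrArg (fun e : genRing a =>
    (e : Module.End (ZMod q) V) v) h)⟩
  haveI : NoZeroDivisors (genRing a) := ⟨fun {x y} h => by
    rcases eq_zero_or_injective ha x with h0 | h0
    · exact Or.inl h0
    refine Or.inr (Subtype.ext (LinearMap.ext fun w => h0 ?_))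
    have := congrArg (fun e : genRing a => (e : Module.End (ZMod q) V) w) h
    refine this.trans ?_
    simp⟩
  exact NoZeroDivisors.to_isDomain _

theorem finrank_genRing {a : H} (ha : NoInvariant a) [Nontrivial V] :
    Module.finrank (ZMod q) (genRing a) = Module.finrank (ZMod q) V := by
  obtain ⟨v, hv⟩ := exists_ne (0 : V)
  exact (LinearEquiv.ofBijective
    ({ toFun := fun x => (x : Module.End (ZMod q) V) v
       map_add' := fun x y => rfl
       map_smul' := fun c x => rfl } : genRing a →ₗ[ZMod q] V)
    ⟨eval_injective ha hv, eval_surjective ha hv⟩).finrank_eq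

instance genRing_finite [Finite V] (a : H) : Finite (genRing a) :=
  Finite.of_injective (fun x => ((x : Module.End (ZMod q) V) : V → V))
    fun _ _ h => Subtype.ext (DFunLike.coe_injective h)

end CfsgLib.OrbitPPower
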