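import Cfsg.Agent.Lib.OrbitPPower.TwoAxis
import Cfsg.Agent.Lib.OrbitPPower.Cyclic
import Cfsg.Agent.Lib.Schur.Sylow

/-!
A finite linear group of order prime to the characteristic, all of whose orbits of vectors have
`p`-power size, is solvable.
-/

set_option autoImplicit false
set_option linter.style.haveILetI false
set_option maxHeartbeats 400000

namespace CfsgLib.OrbitPPower

universe u

variable {q : ℕ} [Fact q.Prime]

theorem solvable_aux {p : ℕ} [hp : Fact p.Prime] : ∀ (n : ℕ) (V : Type u) [AddCommGroup V]
    [Module (ZMod q) V] [Finite V], Nat.card V = n →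
    ∀ (c : ℕ) (H : Subgroup (V ≃ₗ[ZMod q] V)), Nat.card H = c → IsPPow p H → ¬ q ∣ Nat.card H →
      Group.IsSolvable H := by
  intro n
  induction n using Nat.strong_induction_on with
  | h n ihn =>
  intro V _ _ _ hV c
  induction c using Nat.strong_induction_on with
  | h c ihc =>
  intro H hH horb hq
  have hIH : SmallSolvable.{u} q p (Nat.card V) := by
    intro W _ _ _ hlt K hK hKq
    exact ihn _ (hV ▸ hlt) W rfl _ K rfl hK hKq
  by_contra hns
  have hpH : p ∣ Nat.card H := by
    by_contra hd
    haveI : Subsingleton H := ⟨fun x y => by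
      have h := eq_bot_of_not_dvd horb hd
      exact Subtype.ext (((Subgroup.eq_bot_iff_forall _).1 h _ x.2).trans
        ((Subgroup.eq_bot_iff_forall _).1 h _ y.2).symm)⟩
    exact hns inferInstance
  haveI : Nontrivial V := by
    by_contra hnt
    rw [not_nontrivial_iff_subsingleton] at hnt
    haveI := hnt
    haveI : Subsingleton H := ⟨fun x y => Subtype.ext (LinearEquiv.ext fun v => Subsingleton.elim _ _)⟩
    exact hns inferInstance
  have hpq : p ≠ q := fun h => hq (h ▸ hpH)
  -- proper normal subgroups are solvable
  have hsol : ∀ N : Subgroup H, N.Normal → N ≠ ⊤ → Group.IsSolvable N := by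
    intro N hN hne
    have hcard : Nat.card (N.map H.subtype) < c := by
      rw [Subgroup.card_subtype, ← hH]
      exact lt_of_le_of_ne (Subgroup.card_le_card_group N) fun h => hne (Subgroup.eq_top_of_card_eq N h)
    haveI := ihc _ hcard _ rfl (horb.map_normal hp.out N) (not_dvd_map hq N)
    exact Group.isSolvable_of_isSolvable_injective
      (f := (N.equivMapOfInjective H.subtype H.subtype_injective).toMonoidHom) (MulEquiv.injective _)
  have hperf : commutator H = ⊤ := by
    by_contra hne
    haveI := hsol _ inferInstance hne
    exact hns (Group.isSolvable_of_ker_le_range (commutator H).subtype Abelianization.of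
      (by rw [Subgroup.range_subtype, Abelianization.ker_of]))
  obtain ⟨P⟩ : Nonempty (Sylow p H) := inferInstance
  by_cases hirr : Irr P
  swap
  · unfold Irr at hirr
    push Not at hirr
    obtain ⟨W, hW, hb, ht⟩ := hirr
    exact hns (solvable_of_invariant hp.out hIH horb hq W (fun h w hw => by
      obtain ⟨u, hu, he⟩ := exists_sylow_smul horb P h w
      exact he ▸ hW u hu w hw) hb ht)
  by_cases hn : ∀ A : Subgroup (P : Subgroup H), A.Normal → IsMulCommutative A → IsCyclic A
  swap
  · push Not at hn
    obtain ⟨A, hAn, hA, hnc⟩ := hn
    haveI := hAn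
    obtain ⟨B⟩ := blocks_of_not_cyclic hpq hirr A hA hnc
    exact hns (B.isSolvable hIH horb hq)
  obtain ⟨a, hax⟩ := Case.exists_axis P.2 hn
  by_cases htop : Subgroup.zpowers a = ⊤
  · -- cyclic Sylow subgroup
    have hPa : (P : Subgroup H) = Subgroup.zpowers (a : H) := by
      refine le_antisymm (fun x hx => ?_) (Subgroup.zpowers_le.2 a.2)
      obtain ⟨i, hi⟩ := (htop ▸ Subgroup.mem_top (⟨x, hx⟩ : (P : Subgroup H)) :
        (⟨x, hx⟩ : (P : Subgroup H)) ∈ Subgroup.zpowers a)
      exact ⟨i, congrArg Subtype.val hi⟩
    haveI : IsCyclic (P : Subgroup H) := ⟨⟨a, fun x => by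
      have : x ∈ Subgroup.zpowers a := by rw [htop]; exact Subgroup.mem_top x
      exact this⟩⟩
    have hsimple : ∀ N : Subgroup H, N.Normal → N = ⊥ ∨ N = ⊤ := by
      intro N hN
      by_contra hcon
      push Not at hcon
      haveI := hN
      haveI hNsol := hsol N hN hcon.2
      obtain ⟨M, hMn, hM1, hMN, hmin⟩ := Solvable.exists_minimal_normal_le N hcon.1
      haveI := hMn
      haveI : Group.IsSolvable M :=
        Group.isSolvable_of_isSolvable_injective (Subgroup.inclusion_injective hMN)
      have hMab : IsMulCommutative M := by
        haveI : Nontrivial M := (Subgroup.nontrivial_iff_ne_bot M).2 hM1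
        have htopM : commutator M < ⊤ := Group.IsSolvable.commutator_lt_top_of_nontrivial M
        have hmap : (commutator M).map M.subtype = ⁅M, M⁆ := by
          rw [commutator_def, Subgroup.map_commutator, ← MonoidHom.range_eq_map, Subgroup.range_subtype]
        have hlt : ⁅M, M⁆ < M := by
          rw [← hmap]
          refine lt_of_le_of_ne (Subgroup.map_subtype_le _) fun he => htopM.ne ?_
          apply Subgroup.map_injective M.subtype_injective
          rw [he, ← MonoidHom.range_eq_map, Subgroup.range_subtype]
        rcases hmin ⁅M, M⁆ inferInstance hlt.le with h | h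
        · exact ⟨⟨fun x y => Subtype.ext (commutatorElement_eq_one_iff_mul_comm.1
            ((Subgroup.eq_bot_iff_forall _).1 h _ (Subgroup.commutator_mem_commutator x.2 y.2)))⟩⟩
        · exact absurd h hlt.ne
      obtain ⟨t, ht, htM⟩ := Perm.exists_prime_exponent_of_minimal hM1 hmin hMab
      haveI := Fact.mk ht
      have hMt : IsPGroup t M := fun x => ⟨1, Subtype.ext (by
        rw [pow_one]; exact htM x x.2)⟩
      by_cases htp : t = p
      · subst htp
        -- central, hence trivial
        have hMP : M ≤ P := hMt.le_sylow_of_normal P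
        haveI : IsCyclic M := Subgroup.isCyclic_of_le hMP
        have hMc : ∀ x ∈ M, x ∈ Subgroup.center H := by
          intro x hx
          let φ : H →* MulAut M := MulAut.conjNormal
          haveI : IsMulCommutative (MulAut M) :=
            ⟨⟨fun x y => (IsCyclic.mulAutMulEquiv M).injective (by rw [map_mul, map_mul, mul_comm])⟩⟩
          refine Subgroup.mem_center_iff.2 fun g => ?_
          have hg : g ∈ φ.ker := by
            have hle : commutator H ≤ φ.ker := by
              rw [commutator_eq_closure, Subgroup.closure_le]
              rintro _ ⟨s, u, rfl⟩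
              rw [SetLike.mem_coe, MonoidHom.mem_ker, map_commutatorElement,
                commutatorElement_eq_one_iff_mul_comm]
              exact mul_comm' _ _
            exact hle (hperf ▸ Subgroup.mem_top g)
          have h1 := congrArg Subtype.val (MulEquiv.ext_iff.1 (MonoidHom.mem_ker.1 hg) ⟨x, hx⟩)
          rw [MulAut.conjNormal_apply] at h1
          exact mul_inv_eq_iff_eq_mul.1 h1
        refine hM1 ((Subgroup.eq_bot_iff_forall _).2 fun x hx => ?_)
        have h := SchurSylow.center_inf_commutator_inf_sylow_le P (hMc x hx)
          (hperf ▸ Subgroup.mem_top x) (hMP hx)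
        rw [show _root_.commutator (P : Subgroup H) = ⊥ from by
          rw [commutator_def, Subgroup.commutator_eq_bot_iff_le_centralizer]
          intro y _
          rw [Subgroup.mem_centralizer_iff]
          intro z _
          exact mul_comm' z y, Subgroup.map_bot, Subgroup.mem_bot] at h
        exact h
      · exact hM1 (normal_eq_bot htp horb M hMt)
    by_cases hp2 : p = 2
    · subst hp2
      have hmin2 : 2 = (Nat.card H).minFac := ((Nat.minFac_eq_two_iff _).2 hpH).symm
      suffices hK : ∀ K : Subgroup H, K.Normal → K.IsComplement' P → False from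
        hK _ (MonoidHom.normal_ker _) (IsCyclic.isComplement' (P := P) hmin2.symm inferInstance)
      intro K hKn hc
      rcases hsimple K hKn with h | h
      · rw [h] at hc
        have hPtop : (P : Subgroup H) = ⊤ := Subgroup.isComplement'_bot_left.1 hc
        haveI := P.2.isNilpotent
        haveI : Group.IsSolvable (⊤ : Subgroup H) := hPtop ▸ inferInstance
        exact hns (Group.isSolvable_of_isSolvable_injective (f := Subgroup.topEquiv.symm.toMonoidHom)
          (MulEquiv.injective _))
      · rw [h] at hc
        have hPbot : (P : Subgroup H) = ⊥ := Subgroup.isComplement'_top_left.1 hc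
        have h1 := P.dvd_card_of_dvd_card hpH
        rw [hPbot, Subgroup.card_bot] at h1
        omega
    · refine false_of_cyclic hp2 horb hq hns hsimple P hPa ?_
      intro W hW
      refine hirr W fun u hu w hw => ?_
      rw [hPa] at hu
      obtain ⟨k, rfl⟩ := (isOfFinOrder_of_finite (a : H)).mem_powers_iff_mem_zpowers.2 hu
      induction k with
      | zero => show (a : H) ^ 0 • w ∈ W; rwa [pow_zero, one_smul]
      | succ k ih =>
        show (a : H) ^ (k + 1) • w ∈ W
        rw [pow_succ', mul_smul]
        exact hW _ (ih (Subgroup.pow_mem _ (Subgroup.mem_zpowers _) k))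
  · -- the prime is two
    have hp2 : p = 2 := by
      by_contra hp2
      exact htop (Case.eq_top_of_odd P.2 hp2 hn hax)
    subst hp2
    obtain ⟨g, -, hg⟩ := SetLike.exists_of_lt (lt_top_iff_ne_top.2 htop)
    rcases axis_two hirr hpq.symm hn hax hg with hB | hd
    · obtain ⟨B⟩ := hB
      exact hns (B.isSolvable hIH horb hq)
    · exact hns (isSolvable_of_finrank_le_two horb hq hperf hd)

/-- A finite linear group of order prime to the characteristic all of whose orbits on vectors have
`p`-power size is solvable. -/
theorem isSolvable_of_pPow {p : ℕ} [Fact p.Prime] {V : Type u} [AddCommGroup V] [Module (ZMod q) V]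
    [Finite V] (H : Subgroup (V ≃ₗ[ZMod q] V)) (horb : IsPPow p H) (hq : ¬ q ∣ Nat.card H) :
    Group.IsSolvable H :=
  solvable_aux _ V rfl _ H rfl horb hq

end CfsgLib.OrbitPPower
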