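import Cfsg.Agent.Lib.OrbitPPower.Blocks
import Cfsg.Agent.Lib.OrbitPPower.Field
import Cfsg.Agent.Lib.PGroup.Basic
import Cfsg.Agent.Lib.Solvable.CoprimeGeneration
import Cfsg.Agent.Lib.Case.CyclicSelfCentralizing
import Mathlib.FieldTheory.Finite.Basic
import Mathlib.LinearAlgebra.Charpoly.BaseChange

/-!
Irreducible Sylow subgroups: blocks from a non-cyclic abelian normal subgroup, and dimension two
for `2`-groups with a cyclic subgroup of index two acting irreducibly.
-/

set_option autoImplicit false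
set_option linter.style.haveILetI false
set_option maxHeartbeats 400000

open scoped commutatorElement

namespace CfsgLib.OrbitPPower

universe u

variable {q : ℕ} [Fact q.Prime] {V : Type u} [AddCommGroup V] [Module (ZMod q) V] [Finite V]
  {H : Subgroup (V ≃ₗ[ZMod q] V)} {p : ℕ} [hp : Fact p.Prime] {P : Sylow p H}

/-- The Sylow subgroup has no invariant subspace. -/
def Irr (P : Sylow p H) : Prop :=
  ∀ W : Submodule (ZMod q) V, (∀ u ∈ (P : Subgroup H), ∀ w ∈ W, u • w ∈ W) → W = ⊥ ∨ W = ⊤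

omit [Finite V] hp in
theorem exists_omega_not_mem {Q : Type*} [Group Q] [Finite Q] [Fact p.Prime] (hQ : IsPGroup p Q)
    (A : Subgroup Q) (hA : IsMulCommutative A) (hnc : ¬ IsCyclic A) {z : Q} (hzp : orderOf z = p) :
    ∃ x ∈ A, x ^ p = 1 ∧ x ∉ Subgroup.zpowers z := by
  by_contra hall
  push Not at hall
  apply hnc
  letI : CommGroup A := { (inferInstance : Group A) with mul_comm := fun x y => mul_comm' x y }
  refine Solvable.isCyclic_of_card_pow_prime_le fun r hr => ?_
  by_cases hrp : r = p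
  · subst hrp
    let f : (powMonoidHom r : A →* A).ker → Subgroup.zpowers z := fun x =>
      ⟨((x : A) : Q), hall _ (x : A).2 (congrArg Subtype.val (show (x : A) ^ r = 1 from x.2))⟩
    have hf : Function.Injective f := fun x y h => by
      have h1 : ((x : A) : Q) = ((y : A) : Q) := congrArg (fun t : Subgroup.zpowers z => (t : Q)) h
      exact Subtype.ext (Subtype.ext h1)
    exact (Nat.card_le_card_of_injective f hf).trans_eq (by rw [Nat.card_zpowers, hzp])
  · haveI : Subsingleton (powMonoidHom r : A →* A).ker := ⟨fun x y => by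
      have key : ∀ x : (powMonoidHom r : A →* A).ker, x = 1 := fun x => by
        refine Subtype.ext ?_
        have hx : (x : A) ^ r = 1 := x.2
        obtain ⟨k, hk⟩ := IsPGroup.iff_orderOf.1 (hQ.to_subgroup A) (x : A)
        have h1 : orderOf (x : A) ∣ 1 := by
          have hc : (p ^ k).Coprime r :=
            Nat.Coprime.pow_left _ ((Nat.coprime_primes Fact.out hr).2 (Ne.symm hrp))
          rw [← hc.gcd_eq_one, ← hk]
          exact Nat.dvd_gcd dvd_rfl (orderOf_dvd_of_pow_eq_one hx)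
        simpa using orderOf_eq_one_iff.1 (Nat.dvd_one.1 h1)
      rw [key x, key y]⟩
    rw [Nat.card_of_subsingleton (1 : (powMonoidHom r : A →* A).ker)]
    exact hr.one_lt.le

/-- A non-cyclic abelian normal subgroup gives blocks. -/
theorem blocks_of_not_cyclic [Nontrivial V] (hpq : p ≠ q) (hirr : Irr P)
    (A : Subgroup (P : Subgroup H)) [hAn : A.Normal] (hA : IsMulCommutative A) (hnc : ¬ IsCyclic A) :
    Nonempty (Blocks p P) := by
  classical
  have hA1 : A ≠ ⊥ := fun e => hnc (by subst e; infer_instance)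
  obtain ⟨z, hzA, hzc, hzp⟩ := PGroup.exists_central_orderOf_eq P.2 A hA1
  obtain ⟨x₀, hx₀A, hx₀p, hx₀z⟩ := exists_omega_not_mem P.2 A hA hnc hzp
  have hzpow : z ^ p = 1 := by
    have h := pow_orderOf_eq_one z
    rwa [hzp] at h
  haveI hZn : (Subgroup.zpowers z).Normal := ⟨fun y hy g => by
    obtain ⟨i, rfl⟩ := hy
    rw [← conj_zpow, show g * z * g⁻¹ = z by rw [Subgroup.mem_center_iff.1 hzc g, mul_inv_cancel_right]]
    exact ⟨i, rfl⟩⟩
  let Ω : Subgroup (P : Subgroup H) :=
    { carrier := {y | y ∈ A ∧ y ^ p = 1}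
      one_mem' := ⟨A.one_mem, one_pow p⟩
      mul_mem' := by
        rintro s t ⟨hs, hs'⟩ ⟨ht, ht'⟩
        refine ⟨A.mul_mem hs ht, ?_⟩
        rw [Commute.mul_pow (congrArg Subtype.val (hA.is_comm.comm ⟨s, hs⟩ ⟨t, ht⟩)), hs', ht',
          one_mul]
      inv_mem' := by
        rintro s ⟨hs, hs'⟩
        exact ⟨A.inv_mem hs, by rw [inv_pow, hs', inv_one]⟩ }
  haveI : Ω.Normal := ⟨fun y hy g => ⟨hAn.conj_mem y hy.1 g, by rw [conj_pow, hy.2, mul_one,
    mul_inv_cancel]⟩⟩
  have hZΩ : Subgroup.zpowers z < Ω := lt_of_le_of_ne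
    (Subgroup.zpowers_le.2 ⟨hzA, hzpow⟩)
    fun e => hx₀z (e ▸ (⟨hx₀A, hx₀p⟩ : x₀ ∈ Ω))
  obtain ⟨a, ⟨haA, hap⟩, haz, -, hac⟩ := PGroup.exists_step P.2 _ Ω hZΩ
  let zf : ZMod p → (P : Subgroup H) := fun i => z ^ i.val
  have hzf : ∀ n : ℕ, z ^ n = zf (n : ZMod p) := fun n => by
    show z ^ n = z ^ (n : ZMod p).val
    rw [ZMod.val_natCast]
    exact pow_eq_pow_mod n hzpow
  have hzadd : ∀ i j, zf (i + j) = zf i * zf j := fun i j => by
    show _ = z ^ i.val * z ^ j.val
    rw [← pow_add, hzf, Nat.cast_add, ZMod.natCast_zmod_val, ZMod.natCast_zmod_val]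
  have hzne : ∀ i, i ≠ 0 → zf i ≠ 1 := fun i hi h => by
    have h' : orderOf z ∣ i.val := orderOf_dvd_of_pow_eq_one h
    rw [hzp] at h'
    exact hi ((ZMod.val_eq_zero i).1 (Nat.eq_zero_of_dvd_of_lt h' (ZMod.val_lt i)))
  have hzcomm : ∀ i (g : (P : Subgroup H)), Commute (zf i) g := fun i g =>
    (show Commute z g from (Subgroup.mem_center_iff.1 hzc g).symm).pow_left _
  have hfix : ∀ i, i ≠ 0 → ∀ w : V, (zf i : H) • w = w → w = 0 := by
    intro i hi w hw
    rcases hirr (LinearMap.ker (op (zf i : H) - 1)) (fun u hu x hx => by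
      rw [LinearMap.mem_ker, LinearMap.sub_apply, sub_eq_zero] at hx ⊢
      show (zf i : H) • u • x = u • x
      rw [← mul_smul, show (zf i : H) * u = u * zf i from
        congrArg Subtype.val (hzcomm i ⟨u, hu⟩).eq, mul_smul]
      exact congrArg (u • ·) hx) with h | h
    · rw [← Submodule.mem_bot (ZMod q), ← h, LinearMap.mem_ker, LinearMap.sub_apply, sub_eq_zero]
      exact hw
    · exact absurd (Subtype.ext (eq_one_of_forall _ fun x =>
        sub_eq_zero.1 (LinearMap.congr_fun (LinearMap.ker_eq_top.1 h) x))) (hzne i hi)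
  let b : ZMod p → (P : Subgroup H) := fun i => a * zf i
  have hbp : ∀ i, b i ^ p = 1 := fun i => by
    show (a * zf i) ^ p = 1
    rw [((hzcomm i a).symm).mul_pow, hap, one_mul, ← pow_mul, mul_comm, pow_mul, hzpow, one_pow]
  have hsplit : ∀ i j, b j = b i * zf (j - i) := fun i j => by
    show a * zf j = a * zf i * zf (j - i)
    rw [mul_assoc, ← hzadd, add_sub_cancel]
  let e : ZMod p → V →ₗ[ZMod q] V := fun i => ∑ k ∈ Finset.range p, op (((b i) ^ k : (P : Subgroup H)) : H)
  have he : ∀ i v, e i v = ∑ k ∈ Finset.range p, ((b i ^ k : (P : Subgroup H)) : H) • v := fun i v => by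
    simp only [e, LinearMap.coe_sum, Finset.sum_apply, op_apply]
  let W : ZMod p → Submodule (ZMod q) V := fun i => LinearMap.ker (op (b i : H) - 1)
  have hW : ∀ i w, w ∈ W i ↔ (b i : H) • w = w := fun i w => by
    simp only [W, LinearMap.mem_ker, LinearMap.sub_apply, sub_eq_zero]
    rfl
  have hpR : (p : ZMod q) ≠ 0 := by
    rw [Ne, ZMod.natCast_eq_zero_iff]
    exact fun h => hpq ((Nat.prime_dvd_prime_iff_eq Fact.out hp.out).1 h).symm
  have hzsum : ∀ j, j ≠ 0 → ∀ v : V,
      ∑ k ∈ Finset.range p, ((zf j ^ k : (P : Subgroup H)) : H) • v = 0 := by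
    intro j hj v
    refine hfix j hj _ ?_
    rw [Finset.smul_sum]
    simp only [← mul_smul, ← Subgroup.coe_mul, ← pow_succ']
    have h1 := Finset.sum_range_succ (fun k => ((zf j ^ k : (P : Subgroup H)) : H) • v) p
    have h2 := Finset.sum_range_succ' (fun k => ((zf j ^ k : (P : Subgroup H)) : H) • v) p
    rw [h1] at h2
    have hjp : zf j ^ p = 1 := by
      rw [← pow_mul, mul_comm, pow_mul, hzpow, one_pow]
    rw [hjp, pow_zero] at h2
    exact add_right_cancel h2.symm
  have heW : ∀ i v, e i v ∈ W i := by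
    intro i v
    rw [hW, he, Finset.smul_sum]
    simp only [← mul_smul, ← Subgroup.coe_mul, ← pow_succ']
    have h1 := Finset.sum_range_succ (fun k => ((b i ^ k : (P : Subgroup H)) : H) • v) p
    have h2 := Finset.sum_range_succ' (fun k => ((b i ^ k : (P : Subgroup H)) : H) • v) p
    rw [h1, hbp i, pow_zero] at h2
    exact add_right_cancel h2.symm
  have hWfix : ∀ i w, w ∈ W i → ∀ k : ℕ, ((b i ^ k : (P : Subgroup H)) : H) • w = w := by
    intro i w hw k
    induction k with
    | zero => rw [pow_zero]; exact one_smul H w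
    | succ k ih => rw [pow_succ, Subgroup.coe_mul, mul_smul, (hW i w).1 hw, ih]
  have hee : ∀ i j, ∀ w ∈ W i, e j w = if j = i then (p : ZMod q) • w else 0 := by
    intro i j w hw
    rw [he]
    split_ifs with hji
    · subst hji
      rw [Finset.sum_congr rfl fun k _ => hWfix j w hw k, Finset.sum_const, Finset.card_range,
        Nat.cast_smul_eq_nsmul]
    · rw [← hzsum (j - i) (sub_ne_zero.2 hji) w]
      refine Finset.sum_congr rfl fun k _ => ?_
      have hc : Commute (zf (j - i)) (b i) := hzcomm _ _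
      rw [hsplit i j, hc.symm.mul_pow, (hc.symm.pow_pow k k).eq, Subgroup.coe_mul, mul_smul,
        hWfix i w hw k]
  have hWshift : ∀ u : (P : Subgroup H), ∀ t, u * a * u⁻¹ = a * zf t →
      ∀ i, ∀ w ∈ W i, (u : H) • w ∈ W (i + t) := by
    intro u t ht i w hw
    rw [hW, ← mul_smul]
    have h1 : b (i + t) * u = u * b i := by
      show a * zf (i + t) * u = u * (a * zf i)
      rw [← mul_assoc u a (zf i)]
      rw [show u * a = a * zf t * u from mul_inv_eq_iff_eq_mul.1 ht, mul_assoc _ u, ← (hzcomm i u).eq,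
        ← mul_assoc, add_comm, hzadd, ← mul_assoc]
    rw [show (b (i + t) : H) * (u : H) = (u : H) * (b i : H) from congrArg Subtype.val h1,
      mul_smul, (hW i w).1 hw]
  have hconj : ∀ u : (P : Subgroup H), ∃ t, u * a * u⁻¹ = a * zf t := by
    intro u
    obtain ⟨s, hs⟩ := (isOfFinOrder_of_finite z).mem_powers_iff_mem_zpowers.2 (hac u)
    replace hs : z ^ s = ⁅a, u⁆ := hs
    refine ⟨-(s : ZMod p), ?_⟩
    have h0 : zf (s : ZMod p) * zf (-(s : ZMod p)) = 1 := by
      rw [← hzadd, add_neg_cancel]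
      show z ^ (0 : ZMod p).val = 1
      rw [ZMod.val_zero, pow_zero]
    rw [← hzf, hs, commutatorElement_def] at h0
    rw [← (hzcomm _ a).eq, eq_inv_of_mul_eq_one_right h0]
    group
  have hspan : ∀ v : V, ∃ f : ZMod p → V, (∀ i, f i ∈ W i) ∧ ∑ i, f i = v := by
    intro v
    refine ⟨fun i => (p : ZMod q)⁻¹ • e i v, fun i => Submodule.smul_mem _ _ (heW i v), ?_⟩
    rw [← Finset.smul_sum, Finset.sum_congr rfl fun i _ => he i v, Finset.sum_comm,
      Finset.sum_eq_single 0]
    · rw [Finset.sum_congr rfl fun i _ => by rw [pow_zero], Finset.sum_const, Finset.card_univ,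
        ZMod.card, ← Nat.cast_smul_eq_nsmul (ZMod q), inv_smul_smul₀ hpR]
      exact one_smul H v
    · intro k hk hk0
      have hkp : (k : ZMod p) ≠ 0 := by
        rw [Ne, ZMod.natCast_eq_zero_iff]
        exact fun h => hk0 (Nat.eq_zero_of_dvd_of_lt h (Finset.mem_range.1 hk))
      have h1 : ∀ i : ZMod p, ((b i ^ k : (P : Subgroup H)) : H) • v =
          ((zf (k : ZMod p) ^ i.val : (P : Subgroup H)) : H) • ((a ^ k : (P : Subgroup H)) : H) • v := by
        intro i
        rw [← mul_smul, ← Subgroup.coe_mul]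
        show (((a * zf i) ^ k : (P : Subgroup H)) : H) • v = _
        rw [((hzcomm i a).symm).mul_pow, ((hzcomm (k : ZMod p) a).pow_pow i.val k).eq]
        congr 3
        rw [← hzf k, ← pow_mul, ← pow_mul, mul_comm k]
      rw [Finset.sum_congr rfl fun i _ => h1 i]
      refine Eq.trans ?_ (hzsum _ hkp (((a ^ k : (P : Subgroup H)) : H) • v))
      refine Finset.sum_bij (fun i _ => i.val) (fun i _ => Finset.mem_range.2 (ZMod.val_lt i))
        (fun i _ j _ h => ZMod.val_injective p h)
        (fun i hi => ⟨(i : ZMod p), Finset.mem_univ _, ZMod.val_cast_of_lt (Finset.mem_range.1 hi)⟩)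
        (fun i _ => rfl)
    · exact fun h => absurd (Finset.mem_range.2 hp.out.pos) h
  obtain ⟨i₀, hi₀⟩ : ∃ i, W i ≠ ⊥ := by
    by_contra hall
    push Not at hall
    obtain ⟨v, hv⟩ := exists_ne (0 : V)
    obtain ⟨f, hf, hfv⟩ := hspan v
    exact hv (hfv ▸ Finset.sum_eq_zero fun i _ => (Submodule.mem_bot _).1 (hall i ▸ hf i))
  obtain ⟨u, t, ht0, hut⟩ : ∃ u t, t ≠ 0 ∧ u * a * u⁻¹ = a * zf t := by
    by_contra hall
    push Not at hall
    rcases hirr (W i₀) (fun u hu w hw => by
      obtain ⟨t, ht⟩ := hconj ⟨u, hu⟩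
      have ht' : t = 0 := by_contra fun h => hall ⟨u, hu⟩ t h ht
      have := hWshift ⟨u, hu⟩ t ht i₀ w hw
      rwa [ht', add_zero] at this) with h | h
    · exact hi₀ h
    · refine haz ?_
      have h1 : b i₀ = 1 := Subtype.ext (eq_one_of_forall _ fun w => (hW i₀ w).1 (h ▸ Submodule.mem_top))
      rw [show a = (zf i₀)⁻¹ from eq_inv_of_mul_eq_one_left h1]
      exact inv_mem (Subgroup.pow_mem _ (Subgroup.mem_zpowers z) _)
  refine ⟨⟨W, fun f hf hsum i => ?_, hspan, fun i => ?_, fun u hu => ?_⟩⟩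
  · have := congrArg (e i) hsum
    rw [map_sum, map_zero, Finset.sum_congr rfl fun j _ => hee j i (f j) (hf j),
      Finset.sum_ite_eq, if_pos (Finset.mem_univ i)] at this
    exact (smul_eq_zero.1 this).resolve_left hpR
  · have hk : ∀ k : ℕ, W (i₀ + k • t) ≠ ⊥ := by
      intro k
      induction k with
      | zero => simpa using hi₀
      | succ k ih =>
        obtain ⟨w, hw, hw0⟩ := (Submodule.ne_bot_iff _).1 ih
        refine (Submodule.ne_bot_iff _).2 ⟨(u : H) • w, ?_, fun h => hw0 ((smul_eq_zero_iff_eq _).1 h)⟩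
        rw [succ_nsmul, ← add_assoc]
        exact hWshift u t hut _ w hw
    have := hk ((i - i₀) * t⁻¹).val
    rwa [nsmul_eq_mul, ZMod.natCast_zmod_val, mul_assoc, inv_mul_cancel₀ ht0, mul_one,
      add_sub_cancel] at this
  · obtain ⟨s, hs⟩ := hconj ⟨u, hu⟩
    exact ⟨s, hWshift ⟨u, hu⟩ s hs⟩

end CfsgLib.OrbitPPower
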