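import Cfsg.Agent.Lib.OrbitPPower.Reduce

/-!
The prime two: a cyclic subgroup of index two in the Sylow subgroup.
-/

set_option autoImplicit false
set_option linter.style.haveILetI false
set_option maxHeartbeats 400000

namespace CfsgLib.OrbitPPower

universe u

variable {q : ℕ} [Fact q.Prime] {V : Type u} [AddCommGroup V] [Module (ZMod q) V] [Finite V]
  {H : Subgroup (V ≃ₗ[ZMod q] V)}

/-- A perfect linear group with two-power orbits in dimension at most two is a two-group. -/
theorem isSolvable_of_finrank_le_two [Nontrivial V] [Fact (Nat.Prime 2)] (horb : IsPPow 2 H)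
    (hq : ¬ q ∣ Nat.card H) (hperf : commutator H = ⊤) (hd : Module.finrank (ZMod q) V ≤ 2) :
    Group.IsSolvable H := by
  obtain ⟨v, hv⟩ := exists_ne (0 : V)
  haveI : FiniteDimensional (ZMod q) V := inferInstance
  have hdet : ∀ h : H, LinearMap.det (op h) = 1 := by
    intro h
    let f : H →* (ZMod q)ˣ := LinearEquiv.det.comp H.subtype
    have hf : h ∈ f.ker :=
      Abelianization.commutator_subset_ker f (hperf ▸ Subgroup.mem_top h)
    have h1 := congrArg (fun x : (ZMod q)ˣ => (x : ZMod q)) (MonoidHom.mem_ker.1 hf)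
    simpa [f, op, LinearEquiv.coe_det] using h1
  have hstab : MulAction.stabilizer H v = ⊥ := by
    refine (Subgroup.eq_bot_iff_forall _).2 fun h hh => ?_
    replace hh : h • v = v := hh
    refine eq_one_of_stabilize hq (LinearMap.ker (op h - 1)) (fun w hw => ?_) fun x => ?_
    · rw [LinearMap.mem_ker, LinearMap.sub_apply, sub_eq_zero] at hw
      exact hw
    · rw [LinearMap.mem_ker, LinearMap.sub_apply]
      rcases Nat.eq_or_lt_of_le hd with h2 | h1
      · have hdeg : (op h).charpoly.natDegree = 2 := by rw [LinearMap.charpoly_natDegree, h2]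
        have hc0 : (op h).charpoly.coeff 0 = 1 := by
          have h0 := LinearMap.det_eq_sign_charpoly_coeff (op h)
          rw [hdet, h2] at h0
          rw [h0]
          ring
        have hc2 : (op h).charpoly.coeff 2 = 1 := by
          have h0 := (op h).charpoly_monic.coeff_natDegree
          rwa [hdeg] at h0
        have hexp : ∀ y : V, h • h • y + ((op h).charpoly.coeff 1) • (h • y) + y = 0 := by
          intro y
          have h0 := LinearMap.aeval_self_charpoly (op h)
          rw [Polynomial.aeval_eq_sum_range, hdeg] at h0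
          have h3 := LinearMap.congr_fun h0 y
          simp only [Finset.sum_range_succ, Finset.sum_range_zero, hc0, hc2, pow_zero, pow_one,
            sq, one_smul, zero_add, LinearMap.add_apply, LinearMap.smul_apply, Module.End.mul_apply,
            Module.End.one_apply, LinearMap.zero_apply, op_apply] at h3
          rw [← h3]
          abel
        have hc1 : (op h).charpoly.coeff 1 = -2 := by
          have h3 := hexp v
          rw [hh, hh] at h3
          have h4 : ((op h).charpoly.coeff 1 + 2) • v = 0 := by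
            rw [← h3, add_smul, two_smul]
            abel
          exact eq_neg_of_add_eq_zero_left ((smul_eq_zero.1 h4).resolve_right hv)
        have h3 := hexp x
        rw [hc1, neg_smul, two_smul] at h3
        show h • (h • x - x) - (h • x - x) = 0
        rw [smul_sub, ← h3]
        abel
      · have hspan : ∀ y : V, ∃ c : ZMod q, c • v = y :=
          exists_smul_eq_of_finrank_eq_one
            (le_antisymm (by omega) Module.finrank_pos) hv
        obtain ⟨c, rfl⟩ := hspan x
        have : h • (c • v) = c • v := (map_smul (h : V ≃ₗ[ZMod q] V) c v).trans (congrArg (c • ·) hh)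
        rw [this, sub_self]
        simp
  obtain ⟨k, hk⟩ := horb v
  rw [hstab, Subgroup.index_bot] at hk
  haveI := (IsPGroup.of_card hk).isNilpotent
  infer_instance

/-- The axis case. -/
theorem axis_two [Nontrivial V] [Fact (Nat.Prime 2)] {P : Sylow 2 H} (hirr : Irr P) (hq2 : q ≠ 2)
    (hn : ∀ A : Subgroup (P : Subgroup H), A.Normal → IsMulCommutative A → IsCyclic A)
    {a : (P : Subgroup H)} (hax : Case.CyclicAxis 2 a) {g : (P : Subgroup H)}
    (hg : g ∉ Subgroup.zpowers a) :
    Nonempty (Blocks 2 P) ∨ Module.finrank (ZMod q) V ≤ 2 := by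
  obtain ⟨m, hm⟩ := IsPGroup.iff_orderOf.1 P.2 a
  have hout : ∀ x, x ∉ Subgroup.zpowers a → x * g ∈ Subgroup.zpowers a := fun x hx =>
    Case.mul_mem_axis P.2 hn hax hm hx hg
  by_cases ha : NoInvariant (a : H)
  · right
    obtain ⟨r, hr⟩ := hax.exists_pow g
    obtain ⟨hm2, -, hr4⟩ := Case.shape hn hax hm hg (Case.sq_mem P.2 hn hax hm g) hr
    -- make the exponent natural
    obtain ⟨r', hr'⟩ : ∃ r' : ℕ, (r' : ℤ) = r % (2 ^ m : ℕ) :=
      ⟨_, Int.toNat_of_nonneg (Int.emod_nonneg _ (by positivity))⟩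
    have hrr : g * a * g⁻¹ = a ^ r' := by
      rw [hr, ← zpow_natCast, hr', ← hm, zpow_mod_orderOf]
    have hr'4 : (4 : ℤ) ∣ (r' : ℤ) + 1 := by
      have h4 : (4 : ℤ) ∣ ((2 ^ m : ℕ) : ℤ) := by
        rw [show (4 : ℤ) = ((2 ^ 2 : ℕ) : ℤ) from rfl, Int.natCast_dvd_natCast]
        exact pow_dvd_pow 2 hm2
      rw [hr', Int.emod_def, show r - ((2 ^ m : ℕ) : ℤ) * (r / ((2 ^ m : ℕ) : ℤ)) + 1 =
        (r + 1) - ((2 ^ m : ℕ) : ℤ) * (r / ((2 ^ m : ℕ) : ℤ)) by ring]
      exact dvd_sub hr4 (h4.mul_right _)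
    haveI := genRing_isDomain ha
    haveI : Finite (genRing (a : H)) := inferInstance
    letI : Field (genRing (a : H)) := (Finite.isField_of_domain _).toField
    rw [← finrank_genRing ha]
    let E := genRing (a : H)
    let c : Module.End (ZMod q) V →ₐ[ZMod q] Module.End (ZMod q) V :=
      (LinearEquiv.conjAlgEquiv (ZMod q) (((g : H) : V ≃ₗ[ZMod q] V))).toAlgHom
    have hc : ∀ f : Module.End (ZMod q) V, ∀ x, c f x = (g : H) • f ((g : H)⁻¹ • x) := fun f x => rfl
    have hca : c (op (a : H)) = op ((a : H) ^ r') := LinearMap.ext fun x => by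
      rw [hc, op_apply, op_apply, ← mul_smul, ← mul_smul]
      exact congrArg (· • x) (congrArg Subtype.val hrr)
    have hmem : ∀ e : E, c (e : Module.End (ZMod q) V) ∈ E := by
      rintro ⟨e, he⟩
      refine Algebra.adjoin_le (S := E.comap c) ?_ he
      rintro _ rfl
      show c _ ∈ E
      rw [hca, ← gen_pow_val]
      exact Subtype.coe_prop _
    let σ : E →ₐ[ZMod q] E := (c.comp E.val).codRestrict E hmem
    have hσ : σ (gen (a : H)) = gen (a : H) ^ r' := Subtype.ext (hca.trans (gen_pow_val _ _).symm)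
    obtain ⟨j, hj⟩ := (FiniteField.bijective_frobeniusAlgHom_pow (ZMod q) E).2 σ
    set F := FiniteField.frobeniusAlgHom (ZMod q) E with hF
    have hFpow : ∀ (k : ℕ) (x : E), (F ^ k) x = x ^ (q ^ k) := by
      intro k x
      rw [AlgHom.coe_pow, hF, FiniteField.coe_frobeniusAlgHom, pow_iterate, ZMod.card]
    have hTpow : ∀ k l : ℕ, gen (a : H) ^ k = gen (a : H) ^ l ↔ k ≡ l [MOD 2 ^ m] := by
      intro k l
      rw [← hm, ← pow_eq_pow_iff_modEq]
      constructor
      · intro h
        refine Subtype.ext (op_injective ?_)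
        rw [Subgroup.coe_pow, Subgroup.coe_pow, ← gen_pow_val, ← gen_pow_val, h]
      · intro h
        refine Subtype.ext ?_
        rw [gen_pow_val, gen_pow_val, ← Subgroup.coe_pow, ← Subgroup.coe_pow, h]
    have hF1 : ∀ k, (gen (a : H)) ^ (q ^ k) = gen (a : H) → Module.finrank (ZMod q) E ∣ k := by
      intro k hk
      rw [← FiniteField.orderOf_frobeniusAlgHom (ZMod q) E]
      refine orderOf_dvd_of_pow_eq_one (AlgHom.ext fun x => ?_)
      obtain ⟨e, he⟩ := x
      have he' : e ∈ (Polynomial.aeval (R := ZMod q) (op (a : H))).range := by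
        rw [← Algebra.adjoin_singleton_eq_range_aeval (ZMod q) (op (a : H))]; exact he
      obtain ⟨f, hf⟩ := he'
      replace hf : Polynomial.aeval (op (a : H)) f = e := hf
      subst hf
      have e1 : (⟨Polynomial.aeval (op (a : H)) f, he⟩ : E) = Polynomial.aeval (gen (a : H)) f :=
        Subtype.ext (Polynomial.aeval_algHom_apply E.val (gen (a : H)) f)
      rw [e1, AlgHom.one_apply]
      show (F ^ k) _ = _
      rw [← Polynomial.aeval_algHom_apply, hFpow, hk]
    have hjr : q ^ (j : ℕ) ≡ r' [MOD 2 ^ m] := by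
      rw [← hTpow, ← hFpow, ← hσ]
      exact congrArg (fun s : E →ₐ[ZMod q] E => s (gen (a : H))) hj
    have h2j : Module.finrank (ZMod q) E ∣ 2 * (j : ℕ) := by
      refine hF1 _ ?_
      have hσ2 : σ (σ (gen (a : H))) = gen (a : H) := by
        refine Subtype.ext (LinearMap.ext fun x => ?_)
        show c (c (op (a : H))) x = op (a : H) x
        rw [hc, hc, op_apply, op_apply, ← mul_smul, ← mul_smul, ← mul_smul, ← mul_smul]
        congr 1
        obtain ⟨i, hi⟩ := Case.sq_mem P.2 hn hax hm g
        have h1 : g * (g * a * g⁻¹) * g⁻¹ = a := by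
          calc g * (g * a * g⁻¹) * g⁻¹ = g ^ 2 * a * (g ^ 2)⁻¹ := by rw [sq]; group
            _ = a := by rw [← hi]; group
        have h2 := congrArg Subtype.val h1
        simp only [Subgroup.coe_mul, InvMemClass.coe_inv, mul_assoc] at h2 ⊢
        exact h2
      have e : (F ^ (2 * (j : ℕ))) (gen (a : H)) = gen (a : H) := by
        rw [two_mul, pow_add]
        show (F ^ (j : ℕ)) ((F ^ (j : ℕ)) (gen (a : H))) = gen (a : H)
        rw [show (F ^ (j : ℕ)) = σ from hj, hσ2]
      rwa [hFpow] at e
    have h2m : Module.finrank (ZMod q) E ∣ 2 ^ (m - 1) := by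
      refine hF1 _ ?_
      conv_rhs => rw [← pow_one (gen (a : H))]
      rw [hTpow]
      have hco : q.Coprime (2 ^ m) :=
        Nat.Coprime.pow_right _ ((Nat.coprime_primes Fact.out Nat.prime_two).2 hq2)
      have := Nat.ModEq.pow_totient hco
      rwa [Nat.totient_prime_pow Nat.prime_two (by omega), show (2 : ℕ) - 1 = 1 from rfl,
        mul_one] at this
    have hjodd : Odd (j : ℕ) := by
      by_contra hev
      obtain ⟨i, hi⟩ := Nat.not_odd_iff_even.1 hev
      have h4 : q ^ (j : ℕ) ≡ r' [MOD 4] := by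
        refine hjr.of_dvd ?_
        rw [show (4 : ℕ) = 2 ^ 2 from rfl]
        exact pow_dvd_pow 2 hm2
      have hqodd : q % 2 = 1 := (Nat.Prime.eq_two_or_odd Fact.out).resolve_left hq2
      have h1 : q ^ (j : ℕ) % 4 = 1 := by
        rw [hi, ← two_mul, pow_mul, Nat.pow_mod]
        have : q ^ 2 % 4 = 1 := by
          rw [Nat.pow_mod]
          have : q % 4 = 1 ∨ q % 4 = 3 := by omega
          rcases this with h | h <;> rw [h]
        rw [this, one_pow, Nat.one_mod]
      have h3 : r' % 4 = 3 := by omega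
      rw [Nat.ModEq, h1, h3] at h4
      omega
    obtain ⟨k, hk, hkn⟩ := (Nat.dvd_prime_pow Nat.prime_two).1 h2m
    rw [hkn]
    have hk1 : k ≤ 1 := by
      by_contra hk2
      have h4 : 2 * 2 ∣ 2 * (j : ℕ) := (pow_dvd_pow 2 (show 2 ≤ k by omega) |>.trans (hkn ▸ h2j))
      exact Nat.not_even_iff_odd.2 hjodd (even_iff_two_dvd.2 (Nat.dvd_of_mul_dvd_mul_left two_pos h4))
    exact (pow_le_pow_right₀ (by norm_num) hk1).trans_eq (pow_one 2)
  · left
    unfold NoInvariant at ha
    push Not at ha
    obtain ⟨W, hW, hWb, hWt⟩ := ha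
    have hWa : ∀ k : ℕ, ∀ w ∈ W, (a : H) ^ k • w ∈ W := by
      intro k
      induction k with
      | zero => intro w hw; rwa [pow_zero, one_smul]
      | succ k ih => intro w hw; rw [pow_succ', mul_smul]; exact hW _ (ih w hw)
    have hWz : ∀ u ∈ Subgroup.zpowers a, ∀ w ∈ W, (u : H) • w ∈ W := by
      intro u hu w hw
      obtain ⟨k, rfl⟩ := (isOfFinOrder_of_finite a).mem_powers_iff_mem_zpowers.2 hu
      exact hWa k w hw
    let W' : Submodule (ZMod q) V := W.map (op (g : H))
    have hmemW' : ∀ x, x ∈ W' ↔ (g⁻¹ : H) • x ∈ W := fun x => by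
      constructor
      · rintro ⟨w, hw, rfl⟩
        rwa [op_apply, inv_smul_smul]
      · intro hx
        exact ⟨_, hx, smul_inv_smul (g : H) x⟩
    have hgi : g⁻¹ ∉ Subgroup.zpowers a := fun h => hg (inv_inv g ▸ inv_mem h)
    have hin : ∀ u ∈ Subgroup.zpowers a, ∀ w ∈ W', (u : H) • w ∈ W' := by
      intro u hu w hw
      rw [hmemW'] at hw ⊢
      have h1 : g⁻¹ * u * g ∈ Subgroup.zpowers a := by
        simpa using hax.normal.conj_mem u hu g⁻¹
      have := hWz _ h1 _ hw
      rwa [Subgroup.coe_mul, Subgroup.coe_mul, InvMemClass.coe_inv, mul_smul, mul_smul,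
        smul_inv_smul] at this
    have hswap : ∀ u, u ∉ Subgroup.zpowers a →
        (∀ w ∈ W, (u : H) • w ∈ W') ∧ (∀ w ∈ W', (u : H) • w ∈ W) := by
      intro u hu
      refine ⟨fun w hw => (hmemW' _).2 ?_, fun w hw => ?_⟩
      · have h1 : g⁻¹ * u ∈ Subgroup.zpowers a := Case.mul_mem_axis P.2 hn hax hm hgi hu
        have := hWz _ h1 w hw
        rwa [Subgroup.coe_mul, InvMemClass.coe_inv, mul_smul] at this
      · have := hWz _ (hout u hu) _ ((hmemW' w).1 hw)
        rwa [Subgroup.coe_mul, mul_smul, smul_inv_smul] at this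
    have hinf : W ⊓ W' = ⊥ := by
      rcases hirr (W ⊓ W') (fun u hu w hw => by
        by_cases h : (⟨u, hu⟩ : (P : Subgroup H)) ∈ Subgroup.zpowers a
        · exact ⟨hWz _ h w hw.1, hin _ h w hw.2⟩
        · exact ⟨(hswap _ h).2 w hw.2, (hswap _ h).1 w hw.1⟩) with h | h
      · exact h
      · exact absurd (eq_top_iff.2 (h ▸ inf_le_left)) hWt
    have hsup : W ⊔ W' = ⊤ := by
      rcases hirr (W ⊔ W') (fun u hu w hw => by
        obtain ⟨x, hx, y, hy, rfl⟩ := Submodule.mem_sup.1 hw
        rw [smul_add]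
        by_cases h : (⟨u, hu⟩ : (P : Subgroup H)) ∈ Subgroup.zpowers a
        · exact add_mem (Submodule.mem_sup_left (hWz _ h x hx)) (Submodule.mem_sup_right (hin _ h y hy))
        · exact add_mem (Submodule.mem_sup_right ((hswap _ h).1 x hx))
            (Submodule.mem_sup_left ((hswap _ h).2 y hy))) with h | h
      · exact absurd (eq_bot_iff.2 (h ▸ le_sup_left)) hWb
      · exact h
    let B : ZMod 2 → Submodule (ZMod q) V := fun i => if i = 0 then W else W'
    have h01 : ∀ i : ZMod 2, i = 0 ∨ i = 1 := fun i => by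
      fin_cases i
      · exact Or.inl rfl
      · exact Or.inr rfl
    have hsum : ∀ f : ZMod 2 → V, ∑ i, f i = f 0 + f 1 := fun f => Fin.sum_univ_two f
    refine ⟨⟨B, fun f hf hs i => ?_, fun v => ?_, fun i => ?_, fun u hu => ?_⟩⟩
    · rw [hsum] at hs
      have h0 : f 0 ∈ W ⊓ W' := by
        refine ⟨by simpa [B] using hf 0, ?_⟩
        rw [eq_neg_of_add_eq_zero_left hs]
        exact neg_mem (by simpa [B] using hf 1)
      rw [hinf, Submodule.mem_bot] at h0
      rcases h01 i with rfl | rfl
      · exact h0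
      · rwa [h0, zero_add] at hs
    · obtain ⟨x, hx, y, hy, rfl⟩ := Submodule.mem_sup.1 (hsup ▸ Submodule.mem_top : v ∈ W ⊔ W')
      refine ⟨fun i => if i = 0 then x else y, fun i => ?_, by rw [hsum]; simp⟩
      rcases h01 i with rfl | rfl <;> simp [B, hx, hy]
    · rcases h01 i with rfl | rfl
      · simpa [B] using hWb
      · obtain ⟨w, hw, hw0⟩ := (Submodule.ne_bot_iff _).1 hWb
        refine (Submodule.ne_bot_iff _).2 ⟨(g : H) • w, ?_, fun h => hw0 ((smul_eq_zero_iff_eq _).1 h)⟩
        simp only [B, one_ne_zero, if_false]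
        exact ⟨w, hw, rfl⟩
    · by_cases h : (⟨u, hu⟩ : (P : Subgroup H)) ∈ Subgroup.zpowers a
      · refine ⟨0, fun i w hw => ?_⟩
        rw [add_zero]
        rcases h01 i with rfl | rfl
        · simp only [B, if_true] at hw ⊢; exact hWz _ h w hw
        · simp only [B, one_ne_zero, if_false] at hw ⊢; exact hin _ h w hw
      · refine ⟨1, fun i w hw => ?_⟩
        rcases h01 i with rfl | rfl
        · simp only [B, if_true, zero_add, one_ne_zero, if_false] at hw ⊢; exact (hswap _ h).1 w hw
        · simp only [B, show (1 : ZMod 2) + 1 = 0 from rfl, if_true, one_ne_zero, if_false] at hw ⊢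
          exact (hswap _ h).2 w hw

end CfsgLib.OrbitPPower
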